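import Mathlib

/-!
# Bounding the length of subnormal series

`LB G X` says that every weakly increasing subnormal series ending at `⊤` has at most `X / 3`
strict steps.  (The factor `3` keeps bounds of the form `4 (n - r) / 3` integral.)
-/

namespace Cfsg.Agent.CompLen

variable {G : Type*} [Group G]

/-- a weakly increasing series, each term normal in the next, ending with the whole group -/
structure IsSeries (H : ℕ → Subgroup G) (l : ℕ) : Prop where
  top : H l = ⊤
  le : ∀ i < l, H i ≤ H (i + 1)
  normal : ∀ i < l, ∀ x ∈ H (i + 1), ∀ y ∈ H i, x * y * x⁻¹ ∈ H i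

open Classical in
/-- number of strict steps among the first `l` -/
noncomputable def steps (H : ℕ → Subgroup G) (l : ℕ) : ℕ :=
  ((Finset.range l).filter fun i => H i ≠ H (i + 1)).card

/-- three times the number of strict steps of a series is at most `X` -/
def LB (G : Type*) [Group G] (X : ℕ) : Prop :=
  ∀ (H : ℕ → Subgroup G) (l : ℕ), IsSeries H l → 3 * steps H l ≤ X

theorem steps_succ_of_eq {H : ℕ → Subgroup G} {l : ℕ} (h : H l = H (l + 1)) :
    steps H (l + 1) = steps H l := by
  classical
  simp [steps, Finset.range_add_one, Finset.filter_insert, h]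

theorem steps_succ_of_ne {H : ℕ → Subgroup G} {l : ℕ} (h : H l ≠ H (l + 1)) :
    steps H (l + 1) = steps H l + 1 := by
  classical
  simp [steps, Finset.range_add_one, Finset.filter_insert, h]

theorem LB.mono {X Y : ℕ} (h : LB G X) (hXY : X ≤ Y) : LB G Y :=
  fun H l hH => (h H l hH).trans hXY

theorem LB.of_surjective {Q : Type*} [Group Q] {X : ℕ} (h : LB G X) {f : G →* Q}
    (hf : Function.Surjective f) : LB Q X := by
  intro H l hH
  refine le_of_eq_of_le ?_ (h (fun i => (H i).comap f) l
    ⟨by simp [hH.top], fun i hi => Subgroup.comap_mono (hH.le i hi), fun i hi x hx y hy => by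
      simpa using hH.normal i hi _ hx _ hy⟩)
  classical
  simp only [steps, (Subgroup.comap_injective hf).ne_iff]

theorem LB.of_equiv {Q : Type*} [Group Q] {X : ℕ} (h : LB G X) (e : G ≃* Q) : LB Q X :=
  h.of_surjective (f := e.toMonoidHom) e.surjective

/-- Extension: kernel plus image. -/
theorem LB.of_hom {Q : Type*} [Group Q] {a b : ℕ} (f : G →* Q) (hk : LB f.ker a)
    (hr : LB f.range b) : LB G (a + b) := by
  classical
  intro H l hH
  have h1 := hk (fun i => (H i).subgroupOf f.ker) l
    ⟨by simp [hH.top], fun i hi => Subgroup.comap_mono (hH.le i hi), fun i hi x hx y hy => by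
      simpa [Subgroup.mem_subgroupOf] using hH.normal i hi _ hx _ hy⟩
  have h2 := hr (fun i => (H i).map f.rangeRestrict) l
    ⟨by simp [hH.top, ← MonoidHom.range_eq_map,
        MonoidHom.range_eq_top.2 f.rangeRestrict_surjective],
      fun i hi => Subgroup.map_mono (hH.le i hi), fun i hi x hx y hy => by
      obtain ⟨x, hx, rfl⟩ := hx
      obtain ⟨y, hy, rfl⟩ := hy
      exact ⟨x * y * x⁻¹, hH.normal i hi x hx y hy, by simp⟩⟩
  have key : (Finset.range l).filter (fun i => H i ≠ H (i + 1)) ⊆
      (Finset.range l).filter (fun i => (H i).subgroupOf f.ker ≠ (H (i + 1)).subgroupOf f.ker) ∪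
      (Finset.range l).filter (fun i => (H i).map f.rangeRestrict ≠ (H (i + 1)).map f.rangeRestrict) := by
    intro i hi
    simp only [Finset.mem_filter, Finset.mem_range, Finset.mem_union] at hi ⊢
    by_contra hcon
    simp only [hi.1, true_and, ne_eq, not_or, not_not] at hcon
    refine hi.2 (le_antisymm (hH.le i hi.1) fun x hx => ?_)
    have : f.rangeRestrict x ∈ (H i).map f.rangeRestrict := hcon.2 ▸ ⟨x, hx, rfl⟩
    obtain ⟨y, hy, hxy⟩ := this
    have hker : y⁻¹ * x ∈ f.ker := by
      have := congrArg Subtype.val hxy
      simp only [MonoidHom.coe_rangeRestrict] at this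
      simp [MonoidHom.mem_ker, this]
    have hmem : (⟨y⁻¹ * x, hker⟩ : f.ker) ∈ (H i).subgroupOf f.ker :=
      hcon.1 ▸ Subgroup.mem_subgroupOf.2 (mul_mem (inv_mem (hH.le i hi.1 hy)) hx)
    simpa using mul_mem hy (Subgroup.mem_subgroupOf.1 hmem)
  have := (Finset.card_le_card key).trans (Finset.card_union_le _ _)
  simp only [steps] at h1 h2 ⊢
  linarith

theorem LB.of_subsingleton [Subsingleton G] (X : ℕ) : LB G X := by
  classical
  intro H l _
  have : steps H l = 0 := by
    simp only [steps, Finset.card_eq_zero, Finset.filter_eq_empty_iff]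
    intro i _
    simp [Subsingleton.elim (H i) (H (i + 1))]
  omega

/-- a group with only two normal subgroups -/
theorem LB.of_simple (h : ∀ N : Subgroup G, N.Normal → N = ⊥ ∨ N = ⊤) : LB G 3 := by
  classical
  intro H l hH
  have hall : ∀ j, j ≤ l → H (l - j) = ⊥ ∨ H (l - j) = ⊤ := by
    intro j
    induction j with
    | zero => intro _; exact Or.inr (by simpa using hH.top)
    | succ j ih =>
      intro hj
      have e : l - (j + 1) + 1 = l - j := by omega
      have hlt : l - (j + 1) < l := by omega
      rcases ih (by omega) with hb | ht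
      · left
        have := hH.le _ hlt
        rw [e, hb] at this
        exact le_bot_iff.1 this
      · refine h _ ⟨fun y hy x => hH.normal _ hlt x ?_ y hy⟩
        rw [e, ht]; trivial
  have hall' : ∀ i ≤ l, H i = ⊥ ∨ H i = ⊤ := fun i hi => by
    simpa [Nat.sub_sub_self hi] using hall (l - i) (Nat.sub_le _ _)
  have hmono : ∀ i j, i ≤ j → j ≤ l → H i ≤ H j := by
    intro i j hij
    induction j, hij using Nat.le_induction with
    | base => exact fun _ => le_rfl
    | succ j _ ih => exact fun hj => (ih (by omega)).trans (hH.le j (by omega))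
  have : steps H l ≤ 1 := by
    refine Finset.card_le_one.2 ?_
    have one : ∀ i j, i < j → j < l → H i ≠ H (i + 1) → H j = H (j + 1) := by
      intro i j hij hjl hne
      have ht : H (i + 1) = ⊤ := by
        rcases hall' (i + 1) (by omega) with h' | h'
        · exact absurd (le_antisymm (hH.le i (by omega)) (by rw [h']; exact bot_le)) hne
        · exact h'
      have h1 := hmono (i + 1) j (by omega) (by omega)
      rw [ht, top_le_iff] at h1
      have h2 := hH.le j hjl
      rw [h1, top_le_iff] at h2
      rw [h1, h2]
    intro i hi j hj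
    simp only [Finset.mem_filter, Finset.mem_range] at hi hj
    rcases lt_trichotomy i j with h' | h' | h'
    · exact absurd (one i j h' hj.1 hi.2) hj.2
    · exact h'
    · exact absurd (one j i h' hi.1 hj.2) hi.2
  omega

variable [Finite G]

theorem IsSeries.mul_le {H : ℕ → Subgroup G} {l : ℕ} (hH : IsSeries H l) :
    ∀ i ≤ l, 2 ^ steps H i ≤ Nat.card (H i) := by
  intro i
  induction i with
  | zero => intro _; simp only [steps, Finset.range_zero, Finset.filter_empty, Finset.card_empty, pow_zero]; exact Nat.card_pos
  | succ i ih =>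
    intro hi
    have hle := hH.le i (by omega)
    by_cases h : H i = H (i + 1)
    · rw [steps_succ_of_eq h, ← h]; exact ih (by omega)
    · rw [steps_succ_of_ne h, pow_succ]
      obtain ⟨k, hk⟩ := Subgroup.card_dvd_of_le hle
      have hk1 : k ≠ 1 := fun h1 => h (Subgroup.eq_of_le_of_card_ge hle (by rw [hk, h1, mul_one]))
      have hk0 : k ≠ 0 := by
        rintro rfl
        have : 0 < Nat.card (H (i + 1)) := Nat.card_pos
        omega
      rw [hk]
      exact Nat.mul_le_mul (ih (by omega)) (by omega)

theorem IsSeries.cardFactors_le {H : ℕ → Subgroup G} {l : ℕ} (hH : IsSeries H l) :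
    ∀ i ≤ l, steps H i ≤ ArithmeticFunction.cardFactors (Nat.card (H i)) := by
  intro i
  induction i with
  | zero => intro _; simp [steps]
  | succ i ih =>
    intro hi
    have hle := hH.le i (by omega)
    by_cases h : H i = H (i + 1)
    · rw [steps_succ_of_eq h, ← h]; exact ih (by omega)
    · rw [steps_succ_of_ne h]
      obtain ⟨k, hk⟩ := Subgroup.card_dvd_of_le hle
      have hk1 : k ≠ 1 := fun h1 => h (Subgroup.eq_of_le_of_card_ge hle (by rw [hk, h1, mul_one]))
      have hk0 : k ≠ 0 := by
        rintro rfl
        have : 0 < Nat.card (H (i + 1)) := Nat.card_pos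
        omega
      rw [hk, ArithmeticFunction.cardFactors_mul Nat.card_pos.ne' hk0]
      have : 0 < ArithmeticFunction.cardFactors k :=
        ArithmeticFunction.cardFactors_pos_iff_one_lt.2 (by omega)
      have := ih (by omega)
      omega

theorem LB.of_card {X : ℕ} (h : ∀ e, 2 ^ e ≤ Nat.card G → 3 * e ≤ X) : LB G X := fun H l hH => by
  refine h _ ?_
  have := hH.mul_le l le_rfl
  rwa [hH.top, Subgroup.card_top] at this

theorem LB.of_cardFactors {X : ℕ} (h : 3 * ArithmeticFunction.cardFactors (Nat.card G) ≤ X) :
    LB G X := fun H l hH => by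
  have := hH.cardFactors_le l le_rfl
  rw [hH.top, Subgroup.card_top] at this
  omega

omit [Finite G] in
/-- A group generated by `b` pairwise commuting normal subgroups, none of which is contained in
the join of the others before it, has a series with `b` strict steps. -/
theorem LB.card_le_of_iSup {X b : ℕ} (h : LB G X) (T : ℕ → Subgroup G) (hn : ∀ i, (T i).Normal)
    (htop : ⨆ i ∈ Finset.range b, T i = ⊤)
    (hnew : ∀ i < b, ¬ T i ≤ ⨆ j ∈ Finset.range i, T j) : 3 * b ≤ X := by
  classical
  let H : ℕ → Subgroup G := fun i => ⨆ j ∈ Finset.range i, T j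
  have hHn : ∀ i, (H i).Normal := fun i => by
    exact Subgroup.biSup_normal (↑(Finset.range i) : Set ℕ) T (fun j _ => hn j)
  have hle : ∀ i, H i ≤ H (i + 1) := fun i =>
    biSup_mono fun j hj => Finset.range_mono (Nat.le_succ i) hj
  have hb : steps H b = b := by
    refine le_antisymm ((Finset.card_filter_le _ _).trans (Finset.card_range b).le) ?_
    rw [steps, Finset.filter_true_of_mem, Finset.card_range]
    intro i hi heq
    refine hnew i (Finset.mem_range.1 hi) ?_
    show T i ≤ H i
    rw [heq]
    exact le_biSup T (Finset.self_mem_range_succ i)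
  have := h H b ⟨htop, fun i _ => hle i, fun i _ x _ y hy => (hHn i).conj_mem y hy x⟩
  omega

end Cfsg.Agent.CompLen
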