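import Mathlib
import Cfsg.Agent.Lib.CompLen.Basic

/-!
# Composition length and invariant partitions
-/

namespace Cfsg.Agent.CompLen

open MulAction

/-- `Bd m`: every permutation group of degree `m` satisfies `3 l ≤ 4 (m - 1)`. -/
def Bd (m : ℕ) : Prop := ∀ H : Subgroup (Equiv.Perm (Fin m)), LB H (4 * (m - 1))

theorem Bd.range {m : ℕ} (hm : Bd m) {G β : Type*} [Group G] [Finite β]
    (f : G →* Equiv.Perm β) (hcard : Nat.card β = m) : LB f.range (4 * (m - 1)) := by
  subst hcard
  let e : Equiv.Perm β ≃* Equiv.Perm (Fin (Nat.card β)) := (Finite.equivFin β).permCongrHom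
  exact (hm (f.range.map e.toMonoidHom)).of_equiv
    (Subgroup.equivMapOfInjective f.range e.toMonoidHom e.injective).symm

theorem Bd.of_faithful {m : ℕ} (hm : Bd m) {G β : Type*} [Group G] [Finite β] [MulAction G β]
    [FaithfulSMul G β] (hcard : Nat.card β = m) : LB G (4 * (m - 1)) :=
  (hm.range (toPermHom G β) hcard).of_equiv (MonoidHom.ofInjective toPerm_injective).symm

theorem LB.of_hom_le {G Q : Type*} [Group G] [Group Q] {a b X : ℕ} (f : G →* Q)
    (hk : LB f.ker a) (hr : LB f.range b) (h : a + b ≤ X) : LB G X := (hk.of_hom f hr).mono h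

theorem LB.subgroupOf {G : Type*} [Group G] {H K : Subgroup G} {X : ℕ} (h : LB H X)
    (hle : H ≤ K) : LB (H.subgroupOf K) X :=
  h.of_equiv (Subgroup.subgroupOfEquivOfLe hle).symm

section fibres

variable {G α β : Type*} [Group G] [MulAction G α] [FaithfulSMul G α] [Finite α]

/-- the permutation representation on one fibre of an invariant map -/
def fibreHom (π : α → β) (hπ : ∀ (g : G) a, π (g • a) = π a) (b : β) :
    G →* Equiv.Perm {a // π a = b} where
  toFun g := (MulAction.toPerm g).subtypePerm fun a => by
    show π (g • a) = b ↔ π a = b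
    rw [hπ]
  map_one' := by ext a; simp
  map_mul' g h := by
    ext a
    show (g * h) • (a : α) = g • h • (a : α)
    rw [mul_smul]

theorem fibreHom_ker {π : α → β} {hπ : ∀ (g : G) a, π (g • a) = π a} {b : β} {g : G}
    (hg : g ∈ (fibreHom π hπ b).ker) {a : α} (ha : π a = b) : g • a = a := by
  have := Equiv.ext_iff.1 (MonoidHom.mem_ker.1 hg) ⟨a, ha⟩
  simpa [fibreHom, Subtype.ext_iff] using this

/-- a group preserving all fibres: add up the bounds for the fibres -/
theorem LB.of_partition [Finite β] (π : α → β) (hπ : ∀ (g : G) a, π (g • a) = π a)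
    (hsurj : Function.Surjective π) (hBd : ∀ b, Bd (Nat.card {a // π a = b})) :
    LB G (4 * (Nat.card α - Nat.card β)) := by
  classical
  haveI := Fintype.ofFinite α
  haveI := Fintype.ofFinite β
  have key : ∀ (s : Finset β) (K : Subgroup G), (∀ k ∈ K, ∀ a, π a ∉ s → k • a = a) →
      LB K (∑ b ∈ s, 4 * (Nat.card {a // π a = b} - 1)) := by
    intro s
    induction s using Finset.induction_on with
    | empty =>
      intro K hK
      have : K = ⊥ := (Subgroup.eq_bot_iff_forall K).2 fun k hk =>
        FaithfulSMul.eq_of_smul_eq_smul fun a : α => by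
          rw [one_smul]; exact hK k hk a (Finset.notMem_empty _)
      subst this
      exact LB.of_subsingleton _
    | insert b s hb ih =>
      intro K hK
      rw [Finset.sum_insert hb, add_comm]
      let f := (fibreHom π hπ b).comp K.subtype
      refine LB.of_hom f ?_ ((hBd b).range f rfl)
      have h1 := ih (f.ker.map K.subtype) fun k hk a ha => by
        obtain ⟨k', hk', rfl⟩ := hk
        by_cases hab : π a = b
        · exact fibreHom_ker (hπ := hπ) (g := (k' : G)) hk' hab
        · exact hK _ k'.2 a (by simp [hab, ha])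
      exact h1.of_equiv (Subgroup.equivMapOfInjective _ _ K.subtype_injective).symm
  have h := (key Finset.univ ⊤ (fun k _ a ha => absurd (Finset.mem_univ _) ha)).of_equiv
    Subgroup.topEquiv
  refine h.mono (le_of_eq ?_)
  rw [← Finset.mul_sum]
  congr 1
  have hsum : ∑ b, Nat.card {a // π a = b} = Nat.card α := by
    rw [← Nat.card_congr (Equiv.sigmaFiberEquiv π), Nat.card_sigma]
  have hpos : ∀ b, 1 ≤ Nat.card {a // π a = b} := fun b => by
    obtain ⟨a, ha⟩ := hsurj b
    haveI : Nonempty {a // π a = b} := ⟨⟨a, ha⟩⟩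
    exact Nat.card_pos
  have : ∑ b, (Nat.card {a // π a = b} - 1) + Nat.card β = Nat.card α := by
    rw [Nat.card_eq_fintype_card (α := β), ← Finset.card_univ, Finset.card_eq_sum_ones,
      ← Finset.sum_add_distrib, ← hsum]
    exact Finset.sum_congr rfl fun b _ => Nat.sub_add_cancel (hpos b)
  omega

/-- a group permuting the fibres -/
theorem LB.of_blocks [Finite β] [Nonempty β] [MulAction G β] (π : α → β)
    (hπ : ∀ (g : G) a, π (g • a) = g • π a)
    (hsurj : Function.Surjective π) (hBdβ : Bd (Nat.card β))
    (hBd : ∀ b, Bd (Nat.card {a // π a = b})) :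
    LB G (4 * (Nat.card α - 1)) := by
  have hker : ∀ (k : (toPermHom G β).ker) a, π (k • a) = π a := fun k a => by
    show π ((k : G) • a) = π a
    rw [hπ]
    exact Equiv.ext_iff.1 (MonoidHom.mem_ker.1 k.2) _
  refine LB.of_hom_le (toPermHom G β) (LB.of_partition π hker hsurj hBd) (hBdβ.range _ rfl) ?_
  have h1 : 1 ≤ Nat.card β := Nat.card_pos
  have h2 : Nat.card β ≤ Nat.card α := Nat.card_le_card_of_surjective π hsurj
  omega

end fibres

/-- bound for any group from the bounds for its orbits -/
theorem LB.of_orbits {G α : Type*} [Group G] [MulAction G α] [FaithfulSMul G α] [Finite α]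
    (hBd : ∀ q : orbitRel.Quotient G α, Bd (Nat.card {a : α // Quotient.mk'' a = q})) :
    LB G (4 * (Nat.card α - Nat.card (orbitRel.Quotient G α))) :=
  LB.of_partition (β := orbitRel.Quotient G α) (fun a => Quotient.mk'' a)
    (fun g a => Quotient.sound' ⟨g, rfl⟩) Quotient.mk''_surjective hBd

/-- the bound for a point stabiliser -/
theorem LB.of_stabilizer {G α : Type*} [Group G] [MulAction G α] [FaithfulSMul G α] [Finite α]
    (a : α) (h : Bd (Nat.card α - 1)) : LB (stabilizer G a) (4 * (Nat.card α - 1 - 1)) := by
  classical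
  haveI := Fintype.ofFinite α
  let f : stabilizer G a →* Equiv.Perm {x // x ≠ a} :=
    { toFun := fun g => (MulAction.toPerm (g : G)).subtypePerm fun x => by
        show (g : G) • x ≠ a ↔ x ≠ a
        rw [not_iff_not]
        constructor
        · intro hx; exact MulAction.injective (g : G) (hx.trans g.2.symm)
        · rintro rfl; exact g.2
      map_one' := by ext x; simp
      map_mul' := fun g h => by
        ext x
        show ((g : G) * (h : G)) • (x : α) = (g : G) • (h : G) • (x : α)
        rw [mul_smul] }
  have hinj : Function.Injective f := fun g g' hgg => Subtype.ext <|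
    FaithfulSMul.eq_of_smul_eq_smul fun x : α => by
      by_cases hx : x = a
      · subst hx; exact g.2.trans g'.2.symm
      · exact congrArg Subtype.val (Equiv.ext_iff.1 hgg ⟨x, hx⟩)
  have hc : Nat.card {x // x ≠ a} = Nat.card α - 1 := by
    rw [Nat.card_eq_fintype_card, Fintype.card_subtype_compl, Fintype.card_subtype_eq,
      Nat.card_eq_fintype_card]
  exact (h.range f hc).of_equiv (MonoidHom.ofInjective hinj).symm

end Cfsg.Agent.CompLen
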