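import Mathlib
import Cfsg.Agent.Lib.CompLen.Basic
import Cfsg.Agent.Lib.Perm.Basic

/-!
# Counting lemmas for the composition length bound

Order of a group with a regular normal subgroup, order of groups semiregular on the parts of a
partition, small indices in non-abelian simple groups.
-/

namespace Cfsg.Agent.CompLen

open MulAction

variable {G : Type*} [Group G] [Finite G]

/-- a generating family of size logarithmic in the order -/
theorem exists_gen (G : Type*) [Group G] [Finite G] {q : ℕ} (hq2 : 2 ≤ q)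
    (hq : ∀ e, e ∣ Nat.card G → e ≠ 1 → q ≤ e) :
    ∃ (d : ℕ) (s : Fin d → G), Subgroup.closure (Set.range s) = ⊤ ∧ q ^ d ≤ Nat.card G := by
  classical
  by_contra hcon
  have key : ∀ d, ∃ s : Fin d → G, q ^ d ≤ Nat.card (Subgroup.closure (Set.range s)) := by
    intro d
    induction d with
    | zero => exact ⟨Fin.elim0, by simpa using Nat.card_pos⟩
    | succ d ih =>
      obtain ⟨s, hs⟩ := ih
      have hne : Subgroup.closure (Set.range s) ≠ ⊤ := fun h =>
        hcon ⟨d, s, h, hs.trans (Subgroup.card_le_card_group _)⟩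
      obtain ⟨x, hx⟩ : ∃ x, x ∉ Subgroup.closure (Set.range s) := by
        by_contra hall
        exact hne ((Subgroup.eq_top_iff' _).2 fun x => by_contra fun h => hall ⟨x, h⟩)
      refine ⟨Fin.snoc s x, ?_⟩
      have hle : Subgroup.closure (Set.range s) ≤
          Subgroup.closure (Set.range (Fin.snoc s x)) := by
        refine Subgroup.closure_mono ?_
        rintro _ ⟨i, rfl⟩
        exact ⟨i.castSucc, by simp⟩
      obtain ⟨k, hk⟩ := Subgroup.card_dvd_of_le hle
      have hk1 : k ≠ 1 := by
        intro h1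
        refine hx ?_
        rw [Subgroup.eq_of_le_of_card_ge hle (by rw [hk, h1, mul_one])]
        exact Subgroup.subset_closure ⟨Fin.last d, by simp⟩
      have hkd : k ∣ Nat.card G :=
        (Dvd.intro_left _ hk.symm).trans (Subgroup.card_subgroup_dvd_card _)
      rw [hk, pow_succ]
      exact Nat.mul_le_mul hs (hq k hkd hk1)
  obtain ⟨s, hs⟩ := key (Nat.card G)
  have := hs.trans (Subgroup.card_le_card_group _)
  have := Nat.lt_pow_self (n := Nat.card G) (a := q) (by omega)
  omega

variable {α : Type*} [MulAction G α] [FaithfulSMul G α] [Finite α]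

/-- A group with a regular normal subgroup `N` has order at most `n ^ (d + 1)`. -/
theorem card_le_of_regular_normal {N : Subgroup G} [N.Normal] [IsPretransitive N α]
    (hsr : ∀ a : α, stabilizer N a = ⊥) [Nonempty α] {q : ℕ} (hq2 : 2 ≤ q)
    (hq : ∀ e, e ∣ Nat.card α → e ≠ 1 → q ≤ e) :
    ∃ d, q ^ d ≤ Nat.card α ∧ Nat.card G ≤ Nat.card α ^ (d + 1) := by
  classical
  obtain ⟨a⟩ := (inferInstance : Nonempty α)
  have hN : Nat.card N = Nat.card α := Cfsg.Agent.Perm.card_eq_of_regular (hsr a)
  obtain ⟨d, s, hs, hd⟩ := exists_gen N hq2 (hN ▸ hq)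
  refine ⟨d, hN ▸ hd, ?_⟩
  haveI : IsPretransitive G α := Cfsg.Agent.Perm.isPretransitive_of_subgroup ‹_›
  have hst : Nat.card (stabilizer G a) ≤ Nat.card α ^ d := by
    haveI := Fintype.ofFinite α
    have hc : Nat.card (Fin d → α) = Nat.card α ^ d := by simp
    rw [← hc]
    refine Nat.card_le_card_of_injective (fun g i => (g : G) • (s i : G) • a) ?_
    intro g g' hgg
    set h : G := (g : G)⁻¹ * g' with hh
    have ha : h • a = a := by
      rw [hh, ← smul_smul, inv_smul_eq_iff]
      exact (g'.2 : (g' : G) • a = a).trans (g.2 : (g : G) • a = a).symm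
    have hcomm : ∀ i, h * (s i : G) = (s i : G) * h := by
      intro i
      have h1 : h • (s i : G) • a = (s i : G) • a := by
        rw [hh, ← smul_smul, inv_smul_eq_iff]
        exact (congrFun hgg i).symm
      have hmem : (s i : G)⁻¹ * (h * (s i : G) * h⁻¹) ∈ N :=
        mul_mem (inv_mem (s i).2) (‹N.Normal›.conj_mem _ (s i).2 h)
      have := Cfsg.Agent.Perm.stabilizer_subgroup_eq_bot_iff.1 (hsr a) _ hmem (by
        rw [← smul_smul, inv_smul_eq_iff, ← smul_smul, ← smul_smul,
          inv_smul_eq_iff.2 ha.symm, h1])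
      rw [inv_mul_eq_one] at this
      exact (mul_inv_eq_iff_eq_mul.1 this.symm)
    have hcen : h ∈ Subgroup.centralizer (N : Set G) := by
      rw [Subgroup.mem_centralizer_iff]
      intro x hx
      have hle : Subgroup.closure (Set.range s) ≤ (Subgroup.centralizer {h}).subgroupOf N := by
        rw [Subgroup.closure_le]
        rintro _ ⟨i, rfl⟩
        simp only [SetLike.mem_coe, Subgroup.mem_subgroupOf, Subgroup.mem_centralizer_singleton_iff]
        exact hcomm i |>.symm
      rw [hs, top_le_iff, Subgroup.subgroupOf_eq_top] at hle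
      exact Subgroup.mem_centralizer_singleton_iff.1 (hle hx)
    have h1 : h = 1 := Cfsg.Agent.Perm.eq_one_of_forall_smul_eq
      (Cfsg.Agent.Perm.smul_eq_of_mem_centralizer hcen ha)
    rw [hh, inv_mul_eq_one] at h1
    exact Subtype.ext h1
  calc Nat.card G = Nat.card α * Nat.card (stabilizer G a) :=
        (Cfsg.Agent.Perm.card_mul_card_stabilizer a).symm
    _ ≤ Nat.card α * Nat.card α ^ d := Nat.mul_le_mul_left _ hst
    _ = Nat.card α ^ (d + 1) := by rw [pow_succ']

omit [Finite G] in
/-- A group fixing the parts of a partition, semiregular on each part and trivial outside the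
parts in `s`, has order at most the product of the sizes of the parts in `s`. -/
theorem card_le_pow_of_semiregular {β : Type*} [Finite β] (π : α → β)
    (hπ : ∀ (g : G) a, π (g • a) = π a) (hsurj : Function.Surjective π) (s : Finset β)
    (hs : ∀ (g : G) a, π a ∉ s → g • a = a)
    (hsemi : ∀ (g : G) a, g • a = a → ∀ b, π b = π a → g • b = b) {c : ℕ}
    (hc : ∀ b ∈ s, Nat.card {a // π a = b} ≤ c) : Nat.card G ≤ c ^ s.card := by
  classical
  choose r hr using hsurj
  calc Nat.card G ≤ Nat.card ((b : s) → {a // π a = b.1}) := by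
        refine Nat.card_le_card_of_injective (fun g b => ⟨g • r b.1, by rw [hπ, hr]⟩) ?_
        intro g g' h
        have h1 : g⁻¹ * g' = 1 := by
          refine Cfsg.Agent.Perm.eq_one_of_forall_smul_eq (α := α) fun a => ?_
          by_cases ha : π a ∈ s
          · refine hsemi _ (r (π a)) ?_ a (hr _).symm
            have := congrArg Subtype.val (congrFun h ⟨π a, ha⟩)
            simp only at this
            rw [← smul_smul, ← this, inv_smul_smul]
          · exact hs _ a ha
        exact inv_mul_eq_one.1 h1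
    _ = ∏ b : s, Nat.card {a // π a = b.1} := Nat.card_pi
    _ ≤ ∏ _b : s, c := Finset.prod_le_prod' fun b _ => hc b.1 b.2
    _ = c ^ s.card := by simp

omit [Finite α]

theorem five_le_index {T : Type*} [Group T] [Finite T] [IsSimpleGroup T]
    (hT : ¬ IsMulCommutative T) {H : Subgroup T} (hH : H ≠ ⊤) : 5 ≤ H.index := by
  by_contra hlt
  have hdvd : ∀ K : Subgroup T, K ≠ ⊤ → Nat.card T ∣ K.index.factorial := by
    intro K hK
    have hinj : Function.Injective (toPermHom T (T ⧸ K)) := by
      rw [← MonoidHom.ker_eq_bot_iff, ← Subgroup.normalCore_eq_ker]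
      rcases IsSimpleGroup.eq_bot_or_eq_top_of_normal K.normalCore inferInstance with h | h
      · exact h
      · exact absurd (top_le_iff.1 (h ▸ K.normalCore_le)) hK
    rw [Subgroup.index_eq_card, ← Nat.card_perm]
    exact Subgroup.card_dvd_of_injective _ hinj
  have h24 : Nat.card T ∣ 24 :=
    (hdvd H hH).trans (Nat.factorial_dvd_factorial (show H.index ≤ 4 by omega))
  have hnp : ∀ p : ℕ, p.Prime → ∀ k, Nat.card T ≠ p ^ k := by
    intro p hp k hk
    haveI : Fact p.Prime := ⟨hp⟩
    refine hT ?_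
    have hP : IsPGroup p T := IsPGroup.of_card hk
    haveI := hP.isNilpotent
    exact ⟨⟨IsSimpleGroup.comm_iff_isSolvable.2 inferInstance⟩⟩
  obtain ⟨a, b, ha, hb, hab⟩ := (Nat.dvd_mul (k := Nat.card T) (m := 8) (n := 3)).1 h24
  rcases (Nat.dvd_prime Nat.prime_three).1 hb with rfl | rfl
  · obtain ⟨j, -, hj⟩ := (Nat.dvd_prime_pow Nat.prime_two (m := 3)).1 (show a ∣ 2 ^ 3 from ha)
    exact hnp 2 Nat.prime_two j (by rw [← hab, mul_one, hj])
  · haveI : Fact (Nat.Prime 2) := ⟨Nat.prime_two⟩
    haveI : Fact (Nat.Prime 3) := ⟨Nat.prime_three⟩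
    obtain ⟨j, -, hj⟩ := (Nat.dvd_prime_pow Nat.prime_two (m := 3)).1 (show a ∣ 2 ^ 3 from ha)
    have hcard : Nat.card T = 2 ^ j * 3 := by rw [← hab, hj]
    obtain ⟨P, hP⟩ := Sylow.exists_subgroup_card_pow_prime (G := T) 2 (n := j)
      (hcard ▸ dvd_mul_right _ _)
    have hPi : P.index = 3 := by
      have := P.card_mul_index
      rw [hP, hcard] at this
      exact Nat.eq_of_mul_eq_mul_left (by positivity) this
    have hPne : P ≠ ⊤ := fun h => by simp [h] at hPi
    have h6 : Nat.card T ∣ 6 := by simpa [hPi, Nat.factorial] using hdvd P hPne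
    obtain ⟨Q, hQ⟩ := Sylow.exists_subgroup_card_pow_prime (G := T) 3 (n := 1)
      (by rw [hcard, pow_one]; exact dvd_mul_left _ _)
    have hQi : Q.index = 2 ^ j := by
      have := Q.card_mul_index
      rw [hQ, hcard, pow_one, mul_comm (2 ^ j)] at this
      exact Nat.eq_of_mul_eq_mul_left (by norm_num) this
    have hj1 : 2 ^ j ≤ 2 := by
      have := Nat.le_of_dvd (by norm_num) (hcard ▸ h6)
      omega
    by_cases hQt : Q = ⊤
    · rw [hQt, Subgroup.card_top] at hQ
      exact hnp 3 Nat.prime_three 1 hQ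
    · have h2 : Nat.card T ≤ 2 :=
        Nat.le_of_dvd (by norm_num) ((hdvd Q hQt).trans
          (by simpa [hQi] using Nat.factorial_dvd_factorial hj1))
      have := Nat.one_le_two_pow (n := j)
      omega

theorem five_le_card {T : Type*} [Group T] [Finite T] [IsSimpleGroup T]
    (hT : ¬ IsMulCommutative T) {β : Type*} [Finite β] [MulAction T β] {t : T} {x : β}
    (hx : t • x ≠ x) : 5 ≤ Nat.card β := by
  refine (five_le_index hT (H := stabilizer T x) fun h => hx ?_).trans ?_
  · exact mem_stabilizer_iff.1 (h ▸ Subgroup.mem_top t)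
  · rw [index_stabilizer, ← Nat.card_coe_set_eq]
    exact Finite.card_subtype_le _

theorem card_not_small {T : Type*} [Group T] [Finite T] [IsSimpleGroup T]
    (hT : ¬ IsMulCommutative T) {p k r : ℕ} (hp : p.Prime) (hcard : Nat.card T = p ^ k * r) :
    5 ≤ r := by
  haveI : Fact p.Prime := ⟨hp⟩
  obtain ⟨P, hP⟩ := Sylow.exists_subgroup_card_pow_prime (G := T) p (n := k)
    (hcard ▸ dvd_mul_right _ _)
  have hPi : P.index = r := by
    have := P.card_mul_index
    rw [hP, hcard] at this
    exact Nat.eq_of_mul_eq_mul_left (pow_pos hp.pos k) this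
  by_cases h : P = ⊤
  · exfalso
    rw [h, Subgroup.card_top] at hP
    haveI := (IsPGroup.of_card hP).isNilpotent
    exact hT ⟨⟨IsSimpleGroup.comm_iff_isSolvable.2 inferInstance⟩⟩
  · exact hPi ▸ five_le_index hT h

theorem card_not_exceptional {T : Type*} [Group T] [Finite T] [IsSimpleGroup T]
    (hT : ¬ IsMulCommutative T) :
    12 < Nat.card T ∧ Nat.card T ≠ 16 ∧ 10 ≤ Nat.card T ∧ Nat.card T ≠ 15 ∧ Nat.card T ≠ 20 := by
  have key : ∀ p k r, p.Prime → r < 5 → Nat.card T ≠ p ^ k * r :=
    fun p k r hp hr h => absurd (card_not_small hT hp h) (by omega)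
  have h1 : Nat.card T ≠ 1 := key 2 0 1 Nat.prime_two (by omega)
  have h2 := key 2 1 1 Nat.prime_two (by omega)
  have h3 := key 3 1 1 Nat.prime_three (by omega)
  have h4 := key 2 2 1 Nat.prime_two (by omega)
  have h5 := key 5 1 1 Nat.prime_five (by omega)
  have h6 := key 3 1 2 Nat.prime_three (by omega)
  have h7 := key 7 1 1 (by norm_num) (by omega)
  have h8 := key 2 3 1 Nat.prime_two (by omega)
  have h9 := key 3 2 1 Nat.prime_three (by omega)
  have h10 := key 5 1 2 Nat.prime_five (by omega)
  have h11 := key 11 1 1 (by norm_num) (by omega)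
  have h12 := key 3 1 4 Nat.prime_three (by omega)
  have h16 := key 2 4 1 Nat.prime_two (by omega)
  have h15 := key 5 1 3 Nat.prime_five (by omega)
  have h20 := key 5 1 4 Nat.prime_five (by omega)
  have h0 : 0 < Nat.card T := Nat.card_pos
  norm_num only at h1 h2 h3 h4 h5 h6 h7 h8 h9 h10 h11 h12 h16 h15 h20
  omega

/-- numeric bound: `2 ^ l ≤ n ^ (d + 1)`, `2 ^ d ≤ n` -/
theorem numeric_regular {n l d : ℕ} (hn : 12 < n) (hn' : n ≠ 16) (hd : 2 ^ d ≤ n)
    (hl : 2 ^ l ≤ n ^ (d + 1)) : 3 * l + 7 ≤ 4 * n := by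
  by_cases h64 : n < 64
  · by_contra hcon
    have key : ∀ n < 64, 12 < n → n ≠ 16 → ∀ d < 6, 2 ^ d ≤ n →
        (n ^ (d + 1)) ^ 3 < 2 ^ (4 * n - 6) := by decide +kernel
    have hd6 : d < 6 := by
      by_contra h
      have : 2 ^ 6 ≤ 2 ^ d := Nat.pow_le_pow_right (by norm_num) (by omega)
      omega
    have := key n h64 hn hn' d hd6 hd
    have h1 : 2 ^ (4 * n - 6) ≤ 2 ^ (l * 3) := Nat.pow_le_pow_right (by norm_num) (by omega)
    rw [pow_mul] at h1
    have := h1.trans (Nat.pow_le_pow_left hl 3)
    omega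
  · set L := Nat.log 2 n with hL
    have hL1 : 2 ^ L ≤ n := Nat.pow_log_le_self 2 (by omega)
    have hL2 : n < 2 ^ (L + 1) := Nat.lt_pow_succ_log_self (by norm_num) n
    have hL6 : 6 ≤ L := Nat.le_log_of_pow_le (by norm_num) (by omega)
    have hdL : d ≤ L := Nat.le_log_of_pow_le (by norm_num) hd
    have hlt : 2 ^ l < 2 ^ ((L + 1) * (L + 1)) := by
      rw [pow_mul]
      exact hl.trans_lt ((Nat.pow_lt_pow_left hL2 (by omega)).trans_le
        (Nat.pow_le_pow_right (by positivity) (by omega)))
    have hl' := (Nat.pow_lt_pow_iff_right (by norm_num)).1 hlt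
    have key : ∀ L, 6 ≤ L → 3 * ((L + 1) * (L + 1)) + 4 ≤ 4 * 2 ^ L := by
      intro L hL
      induction L, hL using Nat.le_induction with
      | base => norm_num
      | succ L hL ih => rw [pow_succ]; nlinarith
    have := key L hL6
    omega

end Cfsg.Agent.CompLen
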