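import Mathlib
import Cfsg.Agent.Lib.CompLen.Regular
import Cfsg.Agent.Lib.CompLen.Partition

/-!
# The socle case of the composition length bound

`M` is a faithful group with a family of pairwise commuting non-abelian simple normal subgroups
whose join is transitive.
-/

namespace Cfsg.Agent.CompLen

open MulAction

/-- hypotheses on the family of factors -/
structure SocleData (M : Type*) [Group M] (α : Type*) [MulAction M α] {ι : Type*}
    (U : ι → Subgroup M) : Prop where
  normal : ∀ i, (U i).Normal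
  simple : ∀ i, IsSimpleGroup (U i)
  nonab : ∀ i, ¬ IsMulCommutative (U i)
  comm : ∀ i j, i ≠ j → U i ≤ Subgroup.centralizer (U j : Set M)
  center : ∀ x ∈ ⨆ i, U i, (∀ i, x ∈ Subgroup.centralizer (U i : Set M)) → x = 1
  transitive : IsPretransitive (⨆ i, U i : Subgroup M) α
  card_eq : ∀ i j, Nat.card (U i) = Nat.card (U j)
  trans_eq : ∀ i j, IsPretransitive (U i) α → IsPretransitive (U j) α

variable {M α ι : Type*} [Group M] [MulAction M α] {U : ι → Subgroup M}

theorem SocleData.inf_le_bot (hd : SocleData M α U) {i : ι} {K : Subgroup M} [K.Normal]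
    (h : ¬ U i ≤ K) : U i ⊓ K = ⊥ := by
  haveI := hd.simple i
  haveI := hd.normal i
  rcases IsSimpleGroup.eq_bot_or_eq_top_of_normal ((U i ⊓ K).subgroupOf (U i))
    (Subgroup.Normal.comap inferInstance _) with hb | ht
  · rw [Subgroup.subgroupOf_eq_bot] at hb
    exact disjoint_self.1 (hb.mono_right inf_le_left)
  · rw [Subgroup.subgroupOf_eq_top] at ht
    exact absurd (ht.trans inf_le_right) h

theorem SocleData.not_le_biSup (hd : SocleData M α U) {i : ι} {p : ι → Prop} (hp : ¬ p i) :
    ¬ U i ≤ ⨆ (j) (_ : p j), U j := by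
  intro hle
  have h1 : U i ≤ Subgroup.centralizer (U i : Set M) :=
    hle.trans (iSup₂_le fun j hj => hd.comm j i fun e => hp (e ▸ hj))
  exact hd.nonab i ⟨⟨fun x y => Subtype.ext (Subgroup.mem_centralizer_iff.1 (h1 y.2) x x.2)⟩⟩

theorem SocleData.pow_le_card [Finite M] (hd : SocleData M α U) (o : ι) (s : Finset ι) :
    Nat.card (U o) ^ s.card ≤ Nat.card (⨆ i ∈ s, U i : Subgroup M) := by
  classical
  induction s using Finset.induction_on with
  | empty => simpa using Nat.card_pos
  | insert a s ha ih =>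
    set Y : Subgroup M := ⨆ i ∈ s, U i with hY
    haveI : Y.Normal := Subgroup.biSup_normal (↑s : Set ι) U (fun i _ => hd.normal i)
    have hdis : U a ⊓ Y = ⊥ := hd.inf_le_bot (hd.not_le_biSup (p := (· ∈ s)) ha)
    rw [Finset.card_insert_of_notMem ha, Finset.iSup_insert, pow_succ']
    calc Nat.card (U o) * Nat.card (U o) ^ s.card ≤ Nat.card (U o) * Nat.card Y :=
          Nat.mul_le_mul_left _ ih
      _ = Nat.card (U a × Y) := by rw [Nat.card_prod, hd.card_eq o a]
      _ ≤ _ := Nat.card_le_card_of_injective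
          (fun p => (⟨(p.1 : M) * (p.2 : M),
            mul_mem (Subgroup.mem_sup_left p.1.2) (Subgroup.mem_sup_right p.2.2)⟩ :
              (U a ⊔ Y : Subgroup M))) fun p q hpq => by
          simp only [Subtype.mk.injEq] at hpq
          have hz : (q.1 : M)⁻¹ * p.1 ∈ U a ⊓ Y := by
            refine Subgroup.mem_inf.2 ⟨mul_mem (inv_mem q.1.2) p.1.2, ?_⟩
            have he : (q.1 : M)⁻¹ * p.1 = q.2 * (p.2 : M)⁻¹ := by
              rw [eq_mul_inv_iff_mul_eq, mul_assoc, hpq, inv_mul_cancel_left]
            rw [he]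
            exact mul_mem q.2.2 (inv_mem p.2.2)
          rw [hdis, Subgroup.mem_bot, inv_mul_eq_one] at hz
          rw [← hz] at hpq
          exact Prod.ext (Subtype.ext hz.symm) (Subtype.ext (mul_left_cancel hpq))

theorem SocleData.centralizer_mem (hd : SocleData M α U) {p : ι → Prop} {x : M}
    (hx : x ∈ ⨆ (j) (_ : p j), U j) {i : ι} (hi : ¬ p i) :
    x ∈ Subgroup.centralizer (U i : Set M) :=
  iSup₂_le (f := fun j (_ : p j) => U j) (a := Subgroup.centralizer (U i : Set M))
    (fun j hj => hd.comm j i fun e => hi (e ▸ hj)) hx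

variable [Finite M] [Finite α] [FaithfulSMul M α] [Finite ι]

/-- the case of a transitive factor -/
theorem LB.socle_transitive (hd : SocleData M α U) (o : ι) (hk : 2 ≤ Nat.card ι)
    [Nonempty α] (ho : IsPretransitive (U o) α) :
    ∃ X, LB M X ∧ Nat.card ι = 2 ∧ X + 3 ≤ 4 * (Nat.card α - 1) := by
  classical
  haveI : Nontrivial ι := Finite.one_lt_card_iff_nontrivial.1 (by omega)
  obtain ⟨j, hj⟩ := exists_ne o
  have hjt : IsPretransitive (U j) α := hd.trans_eq o j ho
  have hsj : ∀ a : α, stabilizer (U j) a = ⊥ :=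
    Cfsg.Agent.Perm.semiregular_of_commute ho (hd.comm j o hj)
  have hso : ∀ a : α, stabilizer (U o) a = ⊥ :=
    Cfsg.Agent.Perm.semiregular_of_commute hjt (hd.comm o j hj.symm)
  have htwo : Nat.card ι = 2 := by
    refine le_antisymm ?_ hk
    by_contra h
    obtain ⟨l, hlo, hlj⟩ : ∃ l, l ≠ o ∧ l ≠ j := by
      by_contra hall
      haveI := Fintype.ofFinite ι
      have : (Finset.univ : Finset ι) ⊆ {o, j} := by
        intro x _
        by_cases hxo : x = o
        · simp [hxo]
        · have : x = j := by_contra fun hxj => hall ⟨x, hxo, hxj⟩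
          simp [this]
      have := (Finset.card_le_card this).trans Finset.card_le_two
      rw [Finset.card_univ, ← Nat.card_eq_fintype_card] at this
      omega
    have hC : U j = Subgroup.centralizer (U o : Set M) := by
      haveI := ho
      exact Cfsg.Agent.Perm.eq_of_transitive_le_semiregular (hd.comm j o hj) hjt
        fun a => Cfsg.Agent.Perm.semiregular_centralizer a
    refine hd.not_le_biSup (i := l) (p := (· = j)) hlj ?_
    rw [iSup_iSup_eq_left, hC]
    exact hd.comm l o hlo
  haveI := hd.simple o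
  haveI := hd.normal o
  haveI := ho
  obtain ⟨a⟩ := (inferInstance : Nonempty α)
  have hcard : Nat.card (U o) = Nat.card α := Cfsg.Agent.Perm.card_eq_of_regular (hso a)
  obtain ⟨hn1, hn2, -⟩ := card_not_exceptional (hd.nonab o)
  rw [hcard] at hn1 hn2
  obtain ⟨d, hd1, hd2⟩ := card_le_of_regular_normal (G := M) (α := α) hso (le_refl 2)
    (fun e he he1 => by
      have := Nat.pos_of_dvd_of_pos he Nat.card_pos
      omega)
  exact ⟨4 * Nat.card α - 7, LB.of_card fun e he => by
      have := numeric_regular hn1 hn2 hd1 (he.trans hd2)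
      omega,
    htwo, by omega⟩

theorem numeric_socle {c m e a b k n q : ℕ} (hc : 5 ≤ c) (hm : 5 ≤ m) (he : 2 ^ e ≤ c ^ (m - 1))
    (hq : c ≤ q) (hq5 : c = 5 → 25 ≤ q) (ha : q ^ a ≤ c ^ m) (hb : 3 * b ≤ 4 * (m - 1))
    (hk : k = 1 + a + b) (hn : n = m * c) :
    4 * (c - 1) + 3 * e + 4 * (m - 1) + 4 * (k - 1) ≤ 4 * (n - 1) ∧ k < n := by
  have hsq : ∀ c, 4 ≤ c → c ^ 2 ≤ 2 ^ c := by
    intro c hc
    induction c, hc using Nat.le_induction with
    | base => norm_num
    | succ c hc ih => rw [pow_succ 2 c]; nlinarith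
  have he2 : 2 * e ≤ c * (m - 1) := by
    refine (Nat.pow_le_pow_iff_right (le_refl 2)).1 ?_
    rw [mul_comm 2 e, pow_mul, pow_mul]
    refine (Nat.pow_le_pow_left he 2).trans ?_
    rw [← pow_mul, mul_comm, pow_mul]
    exact Nat.pow_le_pow_left (hsq c (by omega)) _
  have ham : a ≤ m := (Nat.pow_le_pow_iff_right (show 1 < c by omega)).1
    ((Nat.pow_le_pow_left hq a).trans ha)
  have ha5 : c = 5 → 2 * a ≤ m := fun h5 => by
    have := (Nat.pow_le_pow_left (hq5 h5) a).trans ha
    rw [h5, show (25 : ℕ) = 5 ^ 2 by norm_num, ← pow_mul] at this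
    exact (Nat.pow_le_pow_iff_right (by norm_num)).1 this
  obtain ⟨m', rfl⟩ : ∃ m', m = m' + 5 := ⟨m - 5, by omega⟩
  have e1 : m' + 5 - 1 = m' + 4 := by omega
  rw [e1] at hb he2
  have hkn : k < n := by nlinarith
  refine ⟨?_, hkn⟩
  have : 4 * (c - 1) + 3 * e + 4 * (m' + 5 - 1) + 4 * (k - 1) + 4 ≤ 4 * n := by
    rw [e1]
    rcases eq_or_lt_of_le hc with h5 | h6
    · subst h5
      have := ha5 rfl
      omega
    · have : (6 : ℕ) * m' ≤ c * m' := Nat.mul_le_mul_right _ h6
      have hn' : n = c * m' + 5 * c := by rw [hn]; ring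
      have he3 : c * (m' + 4) = c * m' + 4 * c := by ring
      omega
  omega

/-- The bound for the group fixing all factors. -/
theorem LB.socle (hd : SocleData M α U) (o : ι) (hk : 2 ≤ Nat.card ι) [Nonempty α]
    (hBd : ∀ m < Nat.card α, Bd m) :
    ∃ X, LB M X ∧ ((Nat.card ι = 2 ∧ X + 3 ≤ 4 * (Nat.card α - 1)) ∨
      (Nat.card ι < Nat.card α ∧ X + 4 * (Nat.card ι - 1) ≤ 4 * (Nat.card α - 1))) := by
  classical
  by_cases ho : IsPretransitive (U o) α
  · obtain ⟨X, h1, h2, h3⟩ := LB.socle_transitive hd o hk ho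
    exact ⟨X, h1, Or.inl ⟨h2, h3⟩⟩
  haveI hTn := hd.normal o
  haveI hTs := hd.simple o
  haveI := hd.transitive
  haveI hMtr : IsPretransitive M α := Cfsg.Agent.Perm.isPretransitive_of_subgroup hd.transitive
  haveI := Fintype.ofFinite ι
  haveI := Fintype.ofFinite α
  set β := orbitRel.Quotient (U o) α with hβ
  haveI : Finite β := Quotient.finite _
  haveI := Fintype.ofFinite β
  haveI : Nonempty β := Nonempty.map Quotient.mk'' ‹_›
  let π : α → β := fun a => Quotient.mk'' a
  have hπs : Function.Surjective π := Quotient.mk''_surjective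
  letI actβ : MulAction M β :=
    { smul := fun g => Quotient.map' (fun a => g • a) (by
        rintro a b ⟨t, ht⟩
        refine ⟨⟨g * (t : M) * g⁻¹, hTn.conj_mem _ t.2 g⟩, ?_⟩
        show (g * (t : M) * g⁻¹) • g • b = g • a
        rw [smul_smul, inv_mul_cancel_right, mul_smul]
        exact congrArg (g • ·) ht)
      one_smul := fun q => by
        induction q using Quotient.inductionOn' with
        | h a => exact congrArg Quotient.mk'' (one_smul M a)
      mul_smul := fun g h q => by
        induction q using Quotient.inductionOn' with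
        | h a => exact congrArg Quotient.mk'' (mul_smul g h a) }
  have hπ : ∀ (g : M) a, π (g • a) = g • π a := fun g a => rfl
  have hπT : ∀ (t : U o) a, π ((t : M) • a) = π a := fun t a => Quotient.sound' ⟨t, rfl⟩
  set m := Nat.card β with hm'
  obtain ⟨a0⟩ := (inferInstance : Nonempty α)
  set c := Nat.card {a // π a = π a0} with hc'
  have hfib : ∀ b, Nat.card {a // π a = b} = c := by
    intro b
    obtain ⟨a, rfl⟩ := hπs b
    obtain ⟨g, rfl⟩ := exists_smul_eq M a0 a
    refine (Nat.card_congr ((MulAction.toPerm g).subtypeEquiv fun x => ?_)).symm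
    show π x = π a0 ↔ π (g • x) = π (g • a0)
    rw [hπ, hπ]
    exact ⟨congrArg _, fun h => MulAction.injective g h⟩
  have hn : Nat.card α = m * c := by
    rw [← Nat.card_congr (Equiv.sigmaFiberEquiv π), Nat.card_sigma]
    simp only [hfib, Finset.sum_const, Finset.card_univ, smul_eq_mul, hm',
      Nat.card_eq_fintype_card (α := β)]
  -- each fibre is moved by `U o`, faithfully
  have hTne : ∀ b, ∃ (t : U o) (a : α), π a = b ∧ (t : M) • a ≠ a := by
    intro b
    by_contra hcon
    simp only [not_exists, not_and, not_not] at hcon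
    obtain ⟨a, rfl⟩ := hπs b
    haveI : Subsingleton {x // π x = π a} := ⟨fun x y => by
      obtain ⟨t, ht⟩ := Quotient.exact' (x.2.trans y.2.symm)
      exact Subtype.ext (ht.symm.trans (hcon t y.1 y.2))⟩
    have hc1 : c ≤ 1 := (hfib (π a)).ge.trans (Finite.card_le_one_iff_subsingleton.2 ‹_›)
    refine hd.nonab o ⟨⟨fun x y => ?_⟩⟩
    have hone : ∀ t : U o, (t : M) = 1 := fun t =>
      Cfsg.Agent.Perm.eq_one_of_forall_smul_eq (α := α) fun x => by
        have : Subsingleton {z // π z = π x} :=
          Finite.card_le_one_iff_subsingleton.1 ((hfib _).le.trans hc1)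
        exact congrArg Subtype.val
          (Subsingleton.elim (⟨(t : M) • x, hπT t x⟩ : {z // π z = π x}) ⟨x, rfl⟩)
    apply Subtype.ext
    simp [hone]
  have hc5 : 5 ≤ c := by
    obtain ⟨t, a, ha, hne⟩ := hTne (π a0)
    letI : MulAction (U o) {x // π x = π a0} := MulAction.compHom _ (fibreHom π hπT (π a0))
    refine five_le_card (hd.nonab o) (t := t) (x := ⟨a, ha⟩) fun h => hne ?_
    exact congrArg Subtype.val h
  have hTfaith : ∀ b (t : M), t ∈ U o → (∀ a, π a = b → t • a = a) → t = 1 := by
    intro b t ht hfix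
    have hmem : (⟨t, ht⟩ : U o) ∈ (fibreHom π hπT b).ker := by
      refine MonoidHom.mem_ker.2 (Equiv.ext fun a => Subtype.ext ?_)
      exact hfix a.1 a.2
    rcases IsSimpleGroup.eq_bot_or_eq_top_of_normal (fibreHom π hπT b).ker inferInstance
      with hb | htop
    · rw [hb, Subgroup.mem_bot] at hmem
      exact congrArg Subtype.val hmem
    · obtain ⟨s, a, ha, hne⟩ := hTne b
      exact absurd (fibreHom_ker (G := U o) (hπ := hπT) (htop ▸ Subgroup.mem_top s) ha) hne
  have hcent : ∀ (x : M), x ∈ Subgroup.centralizer (U o : Set M) → ∀ a, x • a = a →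
      ∀ b, π b = π a → x • b = b := by
    intro x hx a hxa b hb
    obtain ⟨t, rfl⟩ := Quotient.exact' hb
    show x • (t : M) • a = (t : M) • a
    rw [smul_smul, ← Subgroup.mem_centralizer_iff.1 hx t t.2, mul_smul, hxa]
  -- the kernel on the blocks
  set K : Subgroup M := (toPermHom M β).ker with hK
  have hKmem : ∀ {x : M}, x ∈ K → ∀ a, π (x • a) = π a := fun hx a => by
    rw [hπ]; simpa using Equiv.ext_iff.1 (MonoidHom.mem_ker.1 hx) (π a)
  have hTK : U o ≤ K := fun t ht => by
    refine MonoidHom.mem_ker.2 (Equiv.ext fun q => ?_)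
    obtain ⟨a, rfl⟩ := hπs q
    exact hπT ⟨t, ht⟩ a
  have hcn : c < Nat.card α := by
    by_contra hge
    refine ho (Cfsg.Agent.Perm.isPretransitive_subgroup_iff.2 fun a b => ?_)
    have h1 : m = 1 := by
      have : 1 ≤ m := Nat.card_pos
      rw [hn] at hge
      nlinarith
    haveI : Subsingleton β := Finite.card_le_one_iff_subsingleton.1 h1.le
    obtain ⟨t, ht⟩ := Quotient.exact' (Subsingleton.elim (π b) (π a))
    exact ⟨t, t.2, ht⟩
  have hm1 : 2 ≤ m := by
    have : 1 ≤ m := Nat.card_pos
    by_contra h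
    rw [hn, show m = 1 by omega] at hcn
    omega
  have hLBK : LB K (4 * (c - 1) + 3 * Nat.log 2 (c ^ (m - 1))) := by
    let f1 : K →* Equiv.Perm {a // π a = π a0} :=
      fibreHom π (fun (g : K) a => hKmem g.2 a) (π a0)
    refine LB.of_hom_le f1 (a := 3 * Nat.log 2 (c ^ (m - 1))) ?_
      ((hBd c hcn).range f1 rfl) (by omega)
    have hcard : Nat.card f1.ker ≤ c ^ (m - 1) := by
      have := card_le_pow_of_semiregular (G := f1.ker) (α := α) π
        (fun g a => hKmem g.1.2 a) hπs (Finset.univ.erase (π a0))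
        (fun g a ha => fibreHom_ker g.2 (by simpa using ha)) ?_ (c := c) fun b _ => (hfib b).le
      · rwa [Finset.card_erase_of_mem (Finset.mem_univ _), Finset.card_univ,
          ← Nat.card_eq_fintype_card] at this
      intro g a hga b hb
      refine hcent ((g : K) : M) ?_ a hga b hb
      rw [Subgroup.mem_centralizer_iff]
      intro t ht
      set y : M := ((g : K) : M) with hy
      have h1 : y * t * y⁻¹ * t⁻¹ = 1 := by
        refine hTfaith (π a0) _ (mul_mem (hTn.conj_mem t ht y) (inv_mem ht)) fun z hz => ?_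
        have hyfix : ∀ w, π w = π a0 → y • w = w := fun w hw => fibreHom_ker g.2 hw
        have hz' : π (t⁻¹ • z) = π a0 := by rw [hπT ⟨t⁻¹, inv_mem ht⟩ z, hz]
        have hyinv : y⁻¹ • t⁻¹ • z = t⁻¹ • z := by rw [inv_smul_eq_iff, hyfix _ hz']
        rw [mul_smul, mul_smul, mul_smul, hyinv, smul_inv_smul, hyfix z hz]
      rw [mul_inv_eq_one, mul_inv_eq_iff_eq_mul] at h1
      exact h1.symm
    refine LB.of_card fun e he => ?_
    have := Nat.le_log_of_pow_le (by norm_num) (he.trans hcard)
    omega
  -- factors inside / outside the kernel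
  set B : Finset ι := Finset.univ.filter fun i => ¬ U i ≤ K with hB
  set A : Finset ι := Finset.univ.filter fun i => U i ≤ K ∧ i ≠ o with hA
  have hpart : Fintype.card ι = 1 + A.card + B.card := by
    have h1 : A ∪ B = Finset.univ.erase o := by
      ext i
      simp only [hA, hB, Finset.mem_union, Finset.mem_filter, Finset.mem_univ, true_and,
        Finset.mem_erase, and_true]
      constructor
      · rintro (⟨-, h⟩ | h)
        · exact h
        · exact fun e => h (e ▸ hTK)
      · intro h
        by_cases hK' : U i ≤ K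
        · exact Or.inl ⟨hK', h⟩
        · exact Or.inr hK'
    have h2 : Disjoint A B := Finset.disjoint_filter.2 fun i _ h => fun h' => h' h.1
    rw [add_assoc, ← Finset.card_union_of_disjoint h2, h1,
      Finset.card_erase_of_mem (Finset.mem_univ _), Finset.card_univ]
    have : 1 ≤ Fintype.card ι := Fintype.card_pos_iff.2 ⟨o⟩
    omega
  haveI hKn : K.Normal := inferInstance
  obtain ⟨iB, hiB⟩ : ∃ i, ¬ U i ≤ K := by
    by_contra hall
    simp only [not_exists, not_not] at hall
    haveI : Subsingleton β := ⟨fun p q => by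
      obtain ⟨a, rfl⟩ := hπs p
      obtain ⟨b, rfl⟩ := hπs q
      obtain ⟨g, hg, rfl⟩ := Cfsg.Agent.Perm.isPretransitive_subgroup_iff.1 hd.transitive a b
      exact (hKmem ((iSup_le hall) hg) a).symm⟩
    have : m ≤ 1 := Finite.card_le_one_iff_subsingleton.2 inferInstance
    omega
  have hm5 : 5 ≤ m := by
    obtain ⟨x, hx, hxK⟩ := SetLike.not_le_iff_exists.1 hiB
    obtain ⟨q, hq⟩ : ∃ q : β, x • q ≠ q := by
      by_contra hall
      simp only [not_exists, not_not] at hall
      exact hxK (MonoidHom.mem_ker.2 (Equiv.ext hall))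
    haveI := hd.simple iB
    exact five_le_card (T := U iB) (hd.nonab iB) (β := β) (t := ⟨x, hx⟩) (x := q) hq
  have hb : 3 * B.card ≤ 4 * (m - 1) := by
    set X : Subgroup M := ⨆ i ∈ B, U i with hX
    have hinj : Function.Injective ((toPermHom M β).comp X.subtype) := by
      rw [← MonoidHom.ker_eq_bot_iff, Subgroup.eq_bot_iff_forall]
      intro x hx
      have hxK : (x : M) ∈ K := hx
      refine Subtype.ext (hd.center x
        (iSup₂_le (f := fun i (_ : i ∈ B) => U i) (fun i _ => le_iSup U i) x.2) fun i => ?_)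
      by_cases hi : i ∈ B
      · rw [Subgroup.mem_centralizer_iff]
        intro u hu
        have hi' : ¬ U i ≤ K := (Finset.mem_filter.1 hi).2
        have hmem : u * (x : M) * u⁻¹ * (x : M)⁻¹ ∈ U i ⊓ K := by
          refine Subgroup.mem_inf.2 ⟨?_, mul_mem (hKn.conj_mem _ hxK u) (inv_mem hxK)⟩
          rw [show u * (x : M) * u⁻¹ * (x : M)⁻¹ = u * ((x : M) * u⁻¹ * (x : M)⁻¹) by group]
          exact mul_mem hu ((hd.normal i).conj_mem _ (inv_mem hu) _)
        rw [hd.inf_le_bot hi', Subgroup.mem_bot, mul_inv_eq_one, mul_inv_eq_iff_eq_mul] at hmem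
        exact hmem
      · exact hd.centralizer_mem (p := (· ∈ B)) x.2 hi
    have hLB : LB X (4 * (m - 1)) :=
      ((hBd m (by rw [hn]; nlinarith)).range _ rfl).of_equiv (MonoidHom.ofInjective hinj).symm
    let e : Fin B.card → ι := fun i => (B.equivFin.symm i : ι)
    have he : Function.Injective e := Subtype.val_injective.comp (Equiv.injective _)
    have heB : ∀ i, e i ∈ B := fun i => Finset.coe_mem _
    let T : ℕ → Subgroup X := fun i =>
      if h : i < B.card then (U (e ⟨i, h⟩)).subgroupOf X else ⊥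
    refine LB.card_le_of_iSup hLB T ?_ ?_ ?_
    · intro i
      by_cases h : i < B.card
      · simp only [T, dif_pos h]
        exact (hd.normal _).comap _
      · simp only [T, dif_neg h]
        infer_instance
    · refine Subgroup.map_injective X.subtype_injective ?_
      simp only [Subgroup.map_iSup, ← MonoidHom.range_eq_map, Subgroup.range_subtype]
      refine le_antisymm (iSup₂_le fun i hi => Subgroup.map_subtype_le _) ?_
      refine iSup₂_le fun j hj => ?_
      set i := B.equivFin ⟨j, hj⟩ with hi'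
      refine le_trans ?_ (le_iSup₂ (f := fun i (_ : i ∈ Finset.range B.card) =>
        (T i).map X.subtype) (i : ℕ) (Finset.mem_range.2 i.2))
      have hle : U j ≤ X := le_iSup₂ (f := fun i (_ : i ∈ B) => U i) j hj
      simp only [T, dif_pos i.2, Subgroup.map_subgroupOf_eq_of_le
        (show U (e ⟨i, i.2⟩) ≤ X from le_iSup₂ (f := fun i (_ : i ∈ B) => U i) _ (heB _))]
      simp [e, hi']
    · intro i hi hle
      have h1 := Subgroup.map_mono (f := X.subtype) hle
      simp only [Subgroup.map_iSup, T, dif_pos hi] at h1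
      rw [Subgroup.map_subgroupOf_eq_of_le
        (show U (e ⟨i, hi⟩) ≤ X from le_iSup₂ (f := fun i (_ : i ∈ B) => U i) _ (heB _))] at h1
      refine hd.not_le_biSup (i := e ⟨i, hi⟩) (p := (· ≠ e ⟨i, hi⟩)) (fun h => h rfl)
        (h1.trans (iSup₂_le fun j hj => ?_))
      have hj' := Finset.mem_range.1 hj
      rw [dif_pos (show j < B.card by omega)]
      refine (Subgroup.map_comap_le _ _).trans (le_iSup₂ (f := fun l (_ : l ≠ e ⟨i, hi⟩) => U l)
        _ fun h => ?_)
      have := he h
      simp only [Fin.mk.injEq] at this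
      omega
  have ha : Nat.card (U o) ^ A.card ≤ c ^ m := by
    set Y : Subgroup M := ⨆ i ∈ A, U i with hY
    refine (hd.pow_le_card o A).trans ?_
    have hYK : Y ≤ K := iSup₂_le fun i hi => (Finset.mem_filter.1 hi).2.1
    have := card_le_pow_of_semiregular (G := Y) (α := α) π (fun g a => hKmem (hYK g.2) a) hπs
      Finset.univ (fun g a h => absurd (Finset.mem_univ _) h)
      (fun g a hga => hcent (g : M)
        (hd.centralizer_mem (p := (· ∈ A)) g.2 (i := o) (by simp [hA])) a hga)
      (c := c) fun b _ => (hfib b).le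
    rwa [Finset.card_univ, ← Nat.card_eq_fintype_card] at this
  have horb : c * Nat.card (stabilizer (U o) a0) = Nat.card (U o) := by
    rw [← Nat.card_congr (MulAction.orbitProdStabilizerEquivGroup (U o) a0), Nat.card_prod]
    congr 1
    exact Nat.card_congr (Equiv.subtypeEquivRight fun x => Quotient.eq'')
  have hq : c ≤ Nat.card (U o) := horb ▸ Nat.le_mul_of_pos_right _ Nat.card_pos
  have hq5 : c = 5 → 25 ≤ Nat.card (U o) := fun h5 => by
    obtain ⟨h1, -, -, h15, h20⟩ := card_not_exceptional (hd.nonab o)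
    rw [h5] at horb
    omega
  obtain ⟨hX, hkn⟩ := numeric_socle (n := Nat.card α) (k := Fintype.card ι) hc5 hm5
    (Nat.pow_log_le_self 2 (pow_ne_zero _ (by omega))) hq hq5 ha hb hpart hn
  refine ⟨_, LB.of_hom (toPermHom M β) hLBK ((hBd m (by rw [hn]; nlinarith)).range _ rfl),
    Or.inr ⟨by rwa [Nat.card_eq_fintype_card (α := ι)],
      by rwa [Nat.card_eq_fintype_card (α := ι)]⟩⟩

end Cfsg.Agent.CompLen
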