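import Mathlib
import Cfsg.Agent.Lib.CompLen.Socle

/-!
# Composition length of a permutation group

A permutation group of degree `n` with `r` orbits has composition length at most `4 (n - r) / 3`.
No classification is used: primitive groups are handled through a minimal normal subgroup.
-/

namespace Cfsg.Agent.CompLen

open MulAction Pointwise

theorem cardFactors_le_six {s : ℕ} (hs : s ∣ 5040) (hs' : s ≤ 512) :
    ArithmeticFunction.cardFactors s ≤ 6 := by
  obtain ⟨a, b, ha, hb, hab⟩ := (Nat.dvd_mul (k := s) (m := 2 ^ 4) (n := 3 ^ 2 * (5 * 7))).1 hs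
  obtain ⟨b1, b2, hb1, hb2, hbb⟩ := (Nat.dvd_mul (k := b) (m := 3 ^ 2) (n := 5 * 7)).1 hb
  obtain ⟨b3, b4, hb3, hb4, hbc⟩ := (Nat.dvd_mul (k := b2) (m := 5) (n := 7)).1 hb2
  obtain ⟨i, hi, hai⟩ := (Nat.dvd_prime_pow Nat.prime_two).1 ha
  obtain ⟨j, hj, hbj⟩ := (Nat.dvd_prime_pow Nat.prime_three).1 hb1
  obtain ⟨k, hk, hbk⟩ := (Nat.dvd_prime_pow (show Nat.Prime 5 by norm_num) (m := 1)).1
    (show b3 ∣ 5 ^ 1 by rwa [pow_one])
  obtain ⟨l, hl, hbl⟩ := (Nat.dvd_prime_pow (show Nat.Prime 7 by norm_num) (m := 1)).1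
    (show b4 ∣ 7 ^ 1 by rwa [pow_one])
  subst hai hbj hbk hbl hbc hbb hab
  rw [ArithmeticFunction.cardFactors_mul (by positivity) (by positivity),
    ArithmeticFunction.cardFactors_mul (by positivity) (by positivity),
    ArithmeticFunction.cardFactors_mul (by positivity) (by positivity),
    ArithmeticFunction.cardFactors_apply_prime_pow Nat.prime_two,
    ArithmeticFunction.cardFactors_apply_prime_pow Nat.prime_three,
    ArithmeticFunction.cardFactors_apply_prime_pow (show Nat.Prime 5 by norm_num),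
    ArithmeticFunction.cardFactors_apply_prime_pow (show Nat.Prime 7 by norm_num)]
  by_contra h
  have hcases : i + (j + (k + l)) = 8 ∨ i + (j + (k + l)) = 7 := by omega
  interval_cases i <;> interval_cases j <;> interval_cases k <;> interval_cases l <;>
    norm_num at * <;> omega

/-- numeric bound for a regular abelian normal subgroup -/
theorem numeric_abelian {p k d e : ℕ} (hp : p.Prime) (hk : 2 ≤ k) (hn4 : p ^ k ≠ 4)
    (hn8 : p ^ k ≠ 8) (hd : p ^ d ≤ p ^ k) (he : 2 ^ e ≤ (p ^ k) ^ (d + 1)) :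
    3 * e ≤ 4 * (p ^ k - 1) := by
  have h2d : 2 ^ d ≤ p ^ k := (Nat.pow_le_pow_left hp.two_le d).trans hd
  by_cases h12 : 12 < p ^ k ∧ p ^ k ≠ 16
  · have := numeric_regular h12.1 h12.2 h2d he
    omega
  have hdk : d ≤ k := (Nat.pow_le_pow_iff_right hp.one_lt).1 hd
  have hcases : p ^ k = 9 ∨ p ^ k = 16 := by
    by_cases h16 : p ^ k = 16
    · exact Or.inr h16
    left
    have hle : p ^ k ≤ 12 := by
      by_contra h
      exact h12 ⟨by omega, h16⟩
    have hp3 : p ≤ 3 := by
      by_contra h
      have : 4 ^ 2 ≤ p ^ k :=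
        (Nat.pow_le_pow_left (by omega) 2).trans (Nat.pow_le_pow_right hp.pos hk)
      omega
    have hk3 : k ≤ 3 := by
      by_contra h
      have : 2 ^ 4 ≤ p ^ k :=
        (Nat.pow_le_pow_left hp.two_le 4).trans (Nat.pow_le_pow_right hp.pos (by omega))
      omega
    have := hp.two_le
    interval_cases p <;> interval_cases k <;> norm_num at *
  rcases hcases with h | h <;> rw [h] at he hd ⊢
  · have : 2 ^ e < 2 ^ 10 := by
      refine he.trans_lt ?_
      refine (Nat.pow_le_pow_right (by norm_num) (show d + 1 ≤ 3 from ?_)).trans_lt (by norm_num)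
      have hp3 : 3 ≤ p := by
        by_contra h2
        have hp2 : p = 2 := by have := hp.two_le; omega
        rw [hp2] at h
        rcases Nat.lt_or_ge k 4 with h4 | h4
        · interval_cases k <;> norm_num at h
        · have : 2 ^ 4 ≤ 2 ^ k := Nat.pow_le_pow_right (by norm_num) h4
          omega
      have : 3 ^ d < 3 ^ 3 := ((Nat.pow_le_pow_left hp3 d).trans hd).trans_lt (by norm_num)
      have := (Nat.pow_lt_pow_iff_right (by norm_num)).1 this
      omega
    have := (Nat.pow_lt_pow_iff_right (by norm_num)).1 this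
    omega
  · rw [h] at h2d
    have hd4 : d ≤ 4 := (Nat.pow_le_pow_iff_right (le_refl 2)).1 (h2d.trans (le_of_eq (by norm_num)))
    have : 2 ^ e ≤ 2 ^ 20 := he.trans ((Nat.pow_le_pow_right (by norm_num)
      (show d + 1 ≤ 5 by omega)).trans (by norm_num))
    have := (Nat.pow_le_pow_iff_right (le_refl 2)).1 this
    omega

variable {G α : Type*} [Group G] [Finite G] [MulAction G α] [FaithfulSMul G α] [Finite α]

/-- primitive group with an abelian minimal normal subgroup that is not of prime order -/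
theorem LB.primitive_abelian [IsPreprimitive G α] [Nonempty α] {N : Subgroup G} [N.Normal]
    [IsMulCommutative N] (hN : N ≠ ⊥) (hmin : ∀ L : Subgroup G, L.Normal → L ≤ N → L = ⊥ ∨ L = N)
    (hns : ¬ ∀ L : Subgroup N, L.Normal → L = ⊥ ∨ L = ⊤) :
    LB G (4 * (Nat.card α - 1)) := by
  obtain ⟨htr, hsr, -⟩ := Cfsg.Agent.Perm.regular_of_abelian_normal (α := α) hN
  haveI := htr
  obtain ⟨a⟩ := (inferInstance : Nonempty α)
  have hNc : Nat.card N = Nat.card α := Cfsg.Agent.Perm.card_eq_of_regular (hsr a)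
  haveI : Nontrivial N := (Subgroup.nontrivial_iff_ne_bot N).2 hN
  obtain ⟨p, hp, hpd⟩ := Nat.exists_prime_and_dvd (Finite.one_lt_card (α := N)).ne'
  haveI : Fact p.Prime := ⟨hp⟩
  let L : Subgroup G :=
    { carrier := {x | x ∈ N ∧ x ^ p = 1}
      mul_mem' := fun {x y} hx hy => ⟨mul_mem hx.1 hy.1, by
        have hc : Commute x y := congrArg Subtype.val (mul_comm' (⟨x, hx.1⟩ : N) ⟨y, hy.1⟩)
        rw [hc.mul_pow, hx.2, hy.2, one_mul]⟩
      one_mem' := ⟨one_mem N, one_pow p⟩
      inv_mem' := fun {x} hx => ⟨inv_mem hx.1, by rw [inv_pow, hx.2, inv_one]⟩ }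
  haveI hLn : L.Normal := ⟨fun x hx g => ⟨‹N.Normal›.conj_mem x hx.1 g, by
    rw [conj_pow, hx.2, mul_one, mul_inv_cancel]⟩⟩
  have hL : L = N := by
    refine (hmin L hLn fun x hx => hx.1).resolve_left fun hbot => ?_
    obtain ⟨x, hx⟩ := exists_prime_orderOf_dvd_card' p hpd
    have : (x : G) ∈ L := ⟨x.2, by rw [← Subgroup.coe_pow, ← hx, pow_orderOf_eq_one]; rfl⟩
    rw [hbot, Subgroup.mem_bot] at this
    rw [show x = 1 from Subtype.ext this, orderOf_one] at hx
    exact hp.one_lt.ne hx
  have hpg : IsPGroup p N := fun x => ⟨1, by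
    have hx : (x : G) ∈ L := by rw [hL]; exact x.2
    have h := hx.2
    exact Subtype.ext (by simpa using h)⟩
  obtain ⟨k, hk⟩ := IsPGroup.iff_card.1 hpg
  rw [hNc] at hk
  have hk2 : 2 ≤ k := by
    by_contra h
    rcases Nat.lt_or_ge k 1 with h0 | h1
    · have := Finite.one_lt_card (α := N)
      rw [hNc, hk, show k = 0 by omega] at this
      simp at this
    · refine hns fun K _ => ?_
      haveI : Fact (Nat.card N).Prime := ⟨by rw [hNc, hk, show k = 1 by omega, pow_one]; exact hp⟩
      exact Subgroup.eq_bot_or_eq_top_of_prime_card K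
  haveI : IsPretransitive G α := Cfsg.Agent.Perm.isPretransitive_of_subgroup htr
  obtain ⟨d, hd, hG⟩ := card_le_of_regular_normal (G := G) (α := α) hsr hp.two_le
    (fun e he he1 => by
      rw [hk] at he
      obtain ⟨i, -, rfl⟩ := (Nat.dvd_prime_pow hp).1 he
      exact Nat.le_self_pow (fun h => he1 (by rw [h, pow_zero])) p)
  have hperm : Nat.card G ∣ (Nat.card α).factorial := by
    rw [← Nat.card_perm]
    exact Subgroup.card_dvd_of_injective (toPermHom G α) toPerm_injective
  by_cases h4 : Nat.card α = 4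
  · refine LB.of_card fun e he => ?_
    rw [h4] at hperm ⊢
    have : 2 ^ e < 2 ^ 5 := (he.trans (Nat.le_of_dvd (by norm_num [Nat.factorial]) hperm)).trans_lt
      (by norm_num [Nat.factorial])
    have := (Nat.pow_lt_pow_iff_right (by norm_num)).1 this
    omega
  by_cases h8 : Nat.card α = 8
  · refine LB.of_cardFactors ?_
    have hst := Cfsg.Agent.Perm.card_mul_card_stabilizer (G := G) a
    rw [h8] at hst
    have hd3 : d ≤ 3 := by
      have h1 : 2 ^ d ≤ 2 ^ 3 := (Nat.pow_le_pow_left hp.two_le d).trans (hd.trans (le_of_eq h8))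
      exact (Nat.pow_le_pow_iff_right (le_refl 2)).1 h1
    have hs512 : Nat.card (stabilizer G a) ≤ 512 := by
      rw [h8, ← hst] at hG
      have := hG.trans (Nat.pow_le_pow_right (show 1 ≤ 8 by norm_num) (show d + 1 ≤ 4 by omega))
      omega
    have hsd : Nat.card (stabilizer G a) ∣ 5040 := by
      rw [← hst, h8] at hperm
      have : 8 * Nat.card (stabilizer G a) ∣ 8 * 5040 := by simpa [Nat.factorial] using hperm
      exact Nat.dvd_of_mul_dvd_mul_left (by norm_num) this
    have := cardFactors_le_six hsd hs512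
    rw [← hst, ArithmeticFunction.cardFactors_mul (by norm_num) Nat.card_pos.ne', h8,
      show (8 : ℕ) = 2 ^ 3 by norm_num, ArithmeticFunction.cardFactors_apply_prime_pow Nat.prime_two]
    omega
  refine LB.of_card fun e he => ?_
  rw [hk] at hd h4 h8 hG ⊢
  exact numeric_abelian hp hk2 h4 h8 hd (he.trans hG)

/-- a primitive group -/
theorem LB.primitive [IsPreprimitive G α] (hn : 2 ≤ Nat.card α)
    (hBd : ∀ m < Nat.card α, Bd m) : LB G (4 * (Nat.card α - 1)) := by
  classical
  haveI : Nontrivial α := Finite.one_lt_card_iff_nontrivial.1 (by omega)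
  obtain ⟨a⟩ := (inferInstance : Nonempty α)
  haveI : Nontrivial G := by
    obtain ⟨x, y, hxy⟩ := exists_pair_ne α
    obtain ⟨g, hg⟩ := exists_smul_eq G x y
    exact ⟨g, 1, fun h => hxy (by rw [← hg, h, one_smul])⟩
  obtain ⟨N, ⟨hNn, hN⟩, hmin⟩ := (Set.toFinite {N : Subgroup G | N.Normal ∧ N ≠ ⊥}).exists_minimal
    ⟨⊤, inferInstance, top_ne_bot⟩
  haveI := hNn
  have hmin' : ∀ L : Subgroup G, L.Normal → L ≤ N → L = ⊥ ∨ L = N := fun L hL hle =>
    (em (L = ⊥)).imp_right fun hLb => le_antisymm hle (hmin ⟨hL, hLb⟩ hle)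
  have htr := Cfsg.Agent.Perm.isPretransitive_of_normal (α := α) hN
  haveI := htr
  by_cases hs : ∀ L : Subgroup N, L.Normal → L = ⊥ ∨ L = ⊤
  · refine LB.of_hom_le (QuotientGroup.mk' N) (a := 3) (b := 4 * (Nat.card α - 1 - 1))
      ((LB.of_simple hs).of_equiv (MulEquiv.subgroupCongr (QuotientGroup.ker_mk' N).symm))
      ?_ (by omega)
    refine (LB.of_stabilizer a (hBd _ (by omega))).of_surjective
      (f := ((QuotientGroup.mk' N).rangeRestrict).comp (stabilizer G a).subtype) ?_
    rintro ⟨y, x, rfl⟩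
    have hx : x ∈ (stabilizer G a ⊔ N : Subgroup G) := by
      rw [Cfsg.Agent.Perm.stabilizer_sup_eq_top htr a]; trivial
    rw [← SetLike.mem_coe, Subgroup.mul_normal] at hx
    obtain ⟨h, hh, n, hnN, rfl⟩ := hx
    refine ⟨⟨h, hh⟩, Subtype.ext ?_⟩
    show QuotientGroup.mk' N h = QuotientGroup.mk' N (h * n)
    rw [map_mul, show QuotientGroup.mk' N n = 1 from (QuotientGroup.eq_one_iff n).2 hnN, mul_one]
  by_cases hab : IsMulCommutative N
  · exact LB.primitive_abelian hN hmin' hs
  -- a minimal normal subgroup of `N`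
  obtain ⟨T, ⟨hTN, hTb, hTn⟩, hTmin⟩ :=
    (Set.toFinite {T : Subgroup G | T ≤ N ∧ T ≠ ⊥ ∧
      ∀ x ∈ N, ∀ t ∈ T, x * t * x⁻¹ ∈ T}).exists_minimal
      ⟨N, le_rfl, hN, fun x hx t ht => mul_mem (mul_mem hx ht) (inv_mem hx)⟩
  letI act : MulAction G (Subgroup G) :=
    MulAction.compHom (Subgroup G) (MulAut.conj : G →* MulAut G)
  have hmem : ∀ (g x : G) (V : Subgroup G), x ∈ g • V ↔ g⁻¹ * x * g ∈ V := by
    intro g x V
    show x ∈ (MulAut.conj g • V : Subgroup G) ↔ _
    rw [Subgroup.mem_pointwise_smul_iff_inv_smul_mem, MulAut.smul_def, ← map_inv,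
      MulAut.conj_apply, inv_inv]
  set ι := MulAction.orbit G T with hι
  haveI : Finite ι := Subtype.finite
  -- the properties of the members
  have hprop : ∀ V : ι, (V : Subgroup G) ≤ N ∧ (V : Subgroup G) ≠ ⊥ ∧
      (∀ x ∈ N, ∀ t ∈ (V : Subgroup G), x * t * x⁻¹ ∈ (V : Subgroup G)) ∧
      (∀ W : Subgroup G, W ≤ (V : Subgroup G) → (∀ x ∈ N, ∀ t ∈ W, x * t * x⁻¹ ∈ W) →
        W = ⊥ ∨ W = (V : Subgroup G)) := by
    rintro ⟨_, g, rfl⟩
    refine ⟨fun x hx => ?_, fun h => ?_, fun x hx t ht => ?_, fun W hW hWn => ?_⟩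
    · have h := hNn.conj_mem _ (hTN ((hmem g x T).1 hx)) g
      simpa [mul_assoc] using h
    · exact hTb ((Subgroup.eq_bot_iff_forall T).2 fun t ht => by
        have : g * t * g⁻¹ ∈ (⊥ : Subgroup G) := h ▸ (hmem g _ T).2 (by simpa [mul_assoc] using ht)
        simpa [Subgroup.mem_bot, mul_inv_eq_one] using this)
    · rw [hmem] at ht ⊢
      have := hTn _ (hNn.conj_mem x hx g⁻¹) _ ht
      simpa [mul_assoc] using this
    · by_cases hWb : W = ⊥
      · exact Or.inl hWb
      right
      refine le_antisymm hW fun x hx => ?_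
      have h1 : g⁻¹ • W ≤ T := fun y hy => by
        rw [hmem, inv_inv] at hy
        have := (hmem g _ T).1 (hW hy)
        simpa [mul_assoc] using this
      have h2 : g⁻¹ • W ∈ {T : Subgroup G | T ≤ N ∧ T ≠ ⊥ ∧
          ∀ x ∈ N, ∀ t ∈ T, x * t * x⁻¹ ∈ T} := by
        refine ⟨h1.trans hTN, fun h => hWb ?_, fun y hy t ht => ?_⟩
        · refine (Subgroup.eq_bot_iff_forall W).2 fun w hw => ?_
          have : g⁻¹ * w * g ∈ (⊥ : Subgroup G) :=
            h ▸ (hmem g⁻¹ _ W).2 (by simpa [mul_assoc] using hw)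
          simpa [Subgroup.mem_bot, mul_eq_one_iff_eq_inv, inv_mul_eq_iff_eq_mul] using this
        · rw [hmem, inv_inv] at ht ⊢
          have := hWn _ (hNn.conj_mem y hy g) _ ht
          simpa [mul_assoc] using this
      have := hTmin h2 h1 ((hmem g x T).1 hx)
      rw [hmem, inv_inv] at this
      simpa [mul_assoc] using this
  have hinf : ∀ V W : ι, V ≠ W → ∀ x ∈ (V : Subgroup G), ∀ y ∈ (W : Subgroup G), x * y = y * x := by
    intro V W hVW x hx y hy
    obtain ⟨hV1, -, hV3, hV4⟩ := hprop V
    obtain ⟨hW1, -, hW3, hW4⟩ := hprop W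
    have hbot : (V : Subgroup G) ⊓ W = ⊥ := by
      have hn : ∀ z ∈ N, ∀ t ∈ (V : Subgroup G) ⊓ W, z * t * z⁻¹ ∈ (V : Subgroup G) ⊓ W :=
        fun z hz t ht => ⟨hV3 z hz t ht.1, hW3 z hz t ht.2⟩
      rcases hV4 _ inf_le_left hn with h | h
      · exact h
      · rcases hW4 _ inf_le_right hn with h' | h'
        · exact h'
        · exact absurd (Subtype.ext (h.symm.trans h')) hVW
    have : x * y * x⁻¹ * y⁻¹ ∈ (V : Subgroup G) ⊓ W := by
      refine Subgroup.mem_inf.2 ⟨?_, mul_mem (hW3 x (hV1 hx) y hy) (inv_mem hy)⟩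
      rw [show x * y * x⁻¹ * y⁻¹ = x * (y * x⁻¹ * y⁻¹) by group]
      exact mul_mem hx (hV3 y (hW1 hy) _ (inv_mem hx))
    rw [hbot, Subgroup.mem_bot, mul_inv_eq_one, mul_inv_eq_iff_eq_mul] at this
    exact this
  have hgen : ⨆ V : ι, (V : Subgroup G) = N := by
    refine (hmin' _ ?_ (iSup_le fun V => (hprop V).1)).resolve_left fun h => hTb ?_
    · refine ⟨fun x hx g => ?_⟩
      induction hx using Subgroup.iSup_induction' with
      | hp V y hy =>
        refine Subgroup.mem_iSup_of_mem (g • V) ?_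
        show g * y * g⁻¹ ∈ g • (V : Subgroup G)
        rw [hmem]
        simpa [mul_assoc] using hy
      | h1 => simp
      | hmul y z _ _ hy hz => simpa [mul_assoc] using mul_mem hy hz
    · exact le_bot_iff.1 (h ▸ le_iSup (fun V : ι => (V : Subgroup G)) ⟨T, mem_orbit_self T⟩)
  -- no non-trivial element of `N` centralises every member
  have hcen : ∀ x ∈ N, (∀ (V : ι), ∀ y ∈ (V : Subgroup G), y * x = x * y) → x = 1 := by
    intro x hxN hx
    have hxc : x ∈ N ⊓ Subgroup.centralizer (N : Set G) := by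
      refine ⟨hxN, Subgroup.mem_centralizer_iff.2 fun y hy => ?_⟩
      rw [SetLike.mem_coe, ← hgen] at hy
      induction hy using Subgroup.iSup_induction' with
      | hp V y hy => exact hx V y hy
      | h1 => simp
      | hmul y z _ _ hy hz => rw [mul_assoc, hz, ← mul_assoc, hy, mul_assoc]
    rcases hmin' (N ⊓ Subgroup.centralizer (N : Set G)) inferInstance inf_le_left with h | h
    · rwa [h, Subgroup.mem_bot] at hxc
    · refine absurd ?_ hab
      have hle : N ≤ Subgroup.centralizer (N : Set G) := (le_of_eq h.symm).trans inf_le_right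
      exact ⟨⟨fun u v => Subtype.ext (Subgroup.mem_centralizer_iff.1 (hle v.2) u u.2)⟩⟩
  have hnab : ∀ V : ι, ¬ IsMulCommutative (V : Subgroup G) := by
    intro V hV
    obtain ⟨hV1, hVb, -, -⟩ := hprop V
    refine hVb ((Subgroup.eq_bot_iff_forall _).2 fun x hx => hcen x (hV1 hx) fun W y hy => ?_)
    by_cases hWV : W = V
    · subst hWV
      exact congrArg Subtype.val (mul_comm' (⟨y, hy⟩ : (W : Subgroup G)) ⟨x, hx⟩)
    · exact hinf W V hWV y hy x hx
  have hsimp : ∀ V : ι, IsSimpleGroup (V : Subgroup G) := by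
    intro V
    obtain ⟨hV1, hVb, -, hV4⟩ := hprop V
    haveI : Nontrivial (V : Subgroup G) := (Subgroup.nontrivial_iff_ne_bot _).2 hVb
    refine ⟨fun H hH => ?_⟩
    have hn : ∀ x ∈ N, ∀ t ∈ H.map (V : Subgroup G).subtype,
        x * t * x⁻¹ ∈ H.map (V : Subgroup G).subtype := by
      intro x hx
      rw [← hgen] at hx
      induction hx using Subgroup.iSup_induction' with
      | hp W y hy =>
        rintro _ ⟨t, ht, rfl⟩
        by_cases hWV : W = V
        · subst hWV
          exact ⟨_, hH.conj_mem t ht ⟨y, hy⟩, rfl⟩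
        · refine ⟨t, ht, ?_⟩
          show (t : G) = y * t * y⁻¹
          rw [hinf W V hWV y hy t t.2, mul_inv_cancel_right]
      | h1 => intro t ht; simpa using ht
      | hmul y z _ _ hy hz => intro t ht; simpa [mul_assoc] using hy _ (hz t ht)
    rcases hV4 _ (Subgroup.map_subtype_le H) hn with h | h
    · left
      exact (Subgroup.map_eq_bot_iff_of_injective H (V : Subgroup G).subtype_injective).1 h
    · right
      refine Subgroup.map_injective (V : Subgroup G).subtype_injective ?_
      rw [h, ← MonoidHom.range_eq_map, Subgroup.range_subtype]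
  -- at least two members
  have hk : 2 ≤ Nat.card ι := by
    by_contra h
    haveI : Subsingleton ι := Finite.card_le_one_iff_subsingleton.1 (by omega)
    haveI : Nonempty ι := ⟨⟨T, mem_orbit_self T⟩⟩
    have hT : (⟨T, mem_orbit_self T⟩ : ι).1 = N := by
      rw [← hgen]
      exact le_antisymm (le_iSup (fun V : ι => (V : Subgroup G)) _)
        (iSup_le fun V => le_of_eq (congrArg Subtype.val (Subsingleton.elim V _)))
    haveI := hsimp ⟨T, mem_orbit_self T⟩
    refine hs fun L hL => ?_
    subst hT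
    exact IsSimpleGroup.eq_bot_or_eq_top_of_normal L hL
  -- the kernel of the action on the members
  let ρ : G →* Equiv.Perm ι := toPermHom G ι
  set M := ρ.ker with hM
  have hMfix : ∀ m ∈ M, ∀ V : ι, m • (V : Subgroup G) = V := fun m hm V =>
    congrArg Subtype.val (Equiv.ext_iff.1 (MonoidHom.mem_ker.1 hm) V)
  have hVM : ∀ V : ι, (V : Subgroup G) ≤ M := by
    intro V x hx
    refine MonoidHom.mem_ker.2 (Equiv.ext fun W => Subtype.ext ?_)
    show x • (W : Subgroup G) = W
    obtain ⟨-, -, hW3, -⟩ := hprop W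
    have hxN := (hprop V).1 hx
    refine le_antisymm (fun y hy => ?_) fun y hy => ?_
    · rw [hmem] at hy
      simpa [mul_assoc] using hW3 x hxN _ hy
    · rw [hmem]
      simpa using hW3 _ (inv_mem hxN) y hy
  haveI : Nonempty α := ⟨a⟩
  let U : ι → Subgroup M := fun V => (V : Subgroup G).subgroupOf M
  have hmap : (⨆ V, U V).map M.subtype = N := by
    rw [Subgroup.map_iSup, ← hgen]
    exact iSup_congr fun V => Subgroup.map_subgroupOf_eq_of_le (hVM V)
  have hd : SocleData M α U :=
    { normal := fun V => ⟨fun x hx m => by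
        rw [Subgroup.mem_subgroupOf] at hx ⊢
        have h := (hmem (m : G) ((m : G) * x * (m : G)⁻¹) V).2 (by simpa [mul_assoc] using hx)
        rw [hMfix m m.2 V] at h
        simpa using h⟩
      simple := fun V => by
        haveI := hsimp V
        haveI := (Subgroup.subgroupOfEquivOfLe (hVM V)).toEquiv.nontrivial
        exact IsSimpleGroup.isSimpleGroup_of_surjective
          (Subgroup.subgroupOfEquivOfLe (hVM V)).symm.toMonoidHom
          (Subgroup.subgroupOfEquivOfLe (hVM V)).symm.surjective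
      nonab := fun V hc => hnab V ⟨⟨fun x y => by
        have h := mul_comm' ((Subgroup.subgroupOfEquivOfLe (hVM V)).symm x)
          ((Subgroup.subgroupOfEquivOfLe (hVM V)).symm y)
        rwa [← map_mul, ← map_mul, EmbeddingLike.apply_eq_iff_eq] at h⟩⟩
      comm := fun V W hVW x hx => Subgroup.mem_centralizer_iff.2 fun y hy =>
        Subtype.ext (hinf V W hVW x hx y hy).symm
      center := fun x hx hxc => Subtype.ext <| hcen x
        (hmap ▸ Subgroup.mem_map_of_mem M.subtype hx) fun V y hy =>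
          congrArg Subtype.val (Subgroup.mem_centralizer_iff.1 (hxc V) ⟨y, hVM V hy⟩ hy)
      transitive := by
        refine Cfsg.Agent.Perm.isPretransitive_subgroup_iff.2 fun x y => ?_
        obtain ⟨g, hg, hgx⟩ := Cfsg.Agent.Perm.isPretransitive_subgroup_iff.1 htr x y
        rw [← hmap] at hg
        obtain ⟨m, hm, rfl⟩ := hg
        exact ⟨m, hm, hgx⟩
      card_eq := fun V W => by
        rw [Nat.card_congr (Subgroup.subgroupOfEquivOfLe (hVM V)).toEquiv,
          Nat.card_congr (Subgroup.subgroupOfEquivOfLe (hVM W)).toEquiv]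
        obtain ⟨g, rfl⟩ := exists_smul_eq G V W
        show Nat.card (V : Subgroup G) = Nat.card (MulAut.conj g • (V : Subgroup G) : Subgroup G)
        exact Nat.card_congr (Subgroup.equivSMul (MulAut.conj g) (V : Subgroup G)).toEquiv
      trans_eq := fun V W hV => by
        refine Cfsg.Agent.Perm.isPretransitive_subgroup_iff.2 fun x y => ?_
        obtain ⟨g, rfl⟩ := exists_smul_eq G V W
        obtain ⟨m, hm, hmx⟩ :=
          Cfsg.Agent.Perm.isPretransitive_subgroup_iff.1 hV (g⁻¹ • x) (g⁻¹ • y)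
        have h : g * (m : G) * g⁻¹ ∈ ((g • V : ι) : Subgroup G) :=
          (hmem g _ V).2 (by simpa [mul_assoc] using Subgroup.mem_subgroupOf.1 hm)
        refine ⟨⟨g * (m : G) * g⁻¹, hVM _ h⟩, h, ?_⟩
        show (g * (m : G) * g⁻¹) • x = y
        rw [mul_smul, mul_smul]
        exact (congrArg (g • ·) hmx).trans (smul_inv_smul g y) }
  obtain ⟨X, hX, hcase⟩ := LB.socle hd ⟨T, mem_orbit_self T⟩ hk hBd
  rcases hcase with ⟨h2, hX3⟩ | ⟨hlt, hX4⟩
  · refine LB.of_hom_le ρ hX (b := 3) (LB.of_card fun e he => ?_) hX3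
    have h := he.trans (Subgroup.card_le_card_group ρ.range)
    rw [Nat.card_perm, h2] at h
    have : e ≤ 1 := (Nat.pow_le_pow_iff_right (le_refl 2)).1 (h.trans (le_of_eq rfl))
    omega
  · exact LB.of_hom_le ρ hX ((hBd _ hlt).range ρ rfl) hX4

omit [Finite G] in
/-- the bound for any faithful group, given it for all smaller degrees -/
theorem LB.faithful_of_smaller (hn : 1 ≤ Nat.card α) (hBd : ∀ m < Nat.card α, Bd m) :
    LB G (4 * (Nat.card α - 1)) := by
  classical
  haveI : Finite G := Finite.of_injective _ (toPerm_injective (α := G) (β := α))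
  haveI : Nonempty α := (Nat.card_pos_iff.1 (by omega)).1
  by_cases h1 : Nat.card α = 1
  · haveI : Subsingleton α := Finite.card_le_one_iff_subsingleton.1 h1.le
    haveI : Subsingleton G := ⟨fun g h =>
      FaithfulSMul.eq_of_smul_eq_smul fun x : α => Subsingleton.elim _ _⟩
    exact LB.of_subsingleton _
  by_cases htr : IsPretransitive G α
  · haveI := htr
    by_cases hp : IsPreprimitive G α
    · haveI := hp
      exact LB.primitive (by omega) hBd
    obtain ⟨r, hr, hinv, hne, hnu⟩ : ∃ r : α → α → Prop, Equivalence r ∧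
        (∀ (g : G) a b, r a b → r (g • a) (g • b)) ∧ (¬ ∀ a b, r a b → a = b) ∧
          ¬ ∀ a b, r a b := by
      by_contra hcon
      refine hp (Cfsg.Agent.Perm.isPreprimitive_of_equivalence fun r hr hi => ?_)
      by_contra h
      exact hcon ⟨r, hr, hi, fun h' => h (Or.inl h'), fun h' => h (Or.inr h')⟩
    let s : Setoid α := ⟨r, hr⟩
    letI : MulAction G (Quotient s) :=
      { smul := fun g => Quotient.map' (fun a => g • a) (fun a b h => hinv g a b h)
        one_smul := fun q => by
          induction q using Quotient.inductionOn' with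
          | h a => exact congrArg Quotient.mk'' (one_smul G a)
        mul_smul := fun g h q => by
          induction q using Quotient.inductionOn' with
          | h a => exact congrArg Quotient.mk'' (mul_smul g h a) }
    haveI : Finite (Quotient s) := Quotient.finite _
    haveI : Nonempty (Quotient s) := Nonempty.map (Quotient.mk s) ‹_›
    refine LB.of_blocks (β := Quotient s) (Quotient.mk s) (fun g a => rfl)
      Quotient.mk_surjective (hBd _ ?_) fun b => hBd _ ?_
    · refine lt_of_le_of_ne (Nat.card_le_card_of_surjective _ Quotient.mk_surjective) fun h => hne ?_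
      intro a b hab
      exact ((Nat.bijective_iff_surjective_and_card _).2 ⟨Quotient.mk_surjective, h.symm⟩).1
        (Quotient.sound hab)
    · obtain ⟨c, d, hcd⟩ : ∃ c d, ¬ r c d := by simpa using hnu
      rcases eq_or_ne (Quotient.mk s c) b with hc | hc
      · exact Finite.card_subtype_lt (x := d) fun hd =>
          hcd (Quotient.exact (hc.trans hd.symm))
      · exact Finite.card_subtype_lt hc
  · haveI : Finite (orbitRel.Quotient G α) := Quotient.finite _
    refine (LB.of_orbits (G := G) (α := α) fun q => hBd _ ?_).mono ?_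
    · obtain ⟨x, hx⟩ : ∃ x : α, Quotient.mk'' x ≠ q := by
        by_contra hall
        simp only [not_exists, not_not] at hall
        exact htr ⟨fun x y => Quotient.exact' ((hall y).trans (hall x).symm)⟩
      exact Finite.card_subtype_lt hx
    · have : 1 ≤ Nat.card (orbitRel.Quotient G α) := by
        haveI : Nonempty (orbitRel.Quotient G α) := Nonempty.map Quotient.mk'' ‹_›
        exact Nat.card_pos
      omega

/-- every permutation group of degree `m` -/
theorem bd_all (m : ℕ) : Bd m := by
  induction m using Nat.strong_induction_on with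
  | _ m ih =>
    intro H
    rcases Nat.eq_zero_or_pos m with rfl | hm
    · haveI : Subsingleton H := inferInstance
      exact LB.of_subsingleton _
    have := LB.faithful_of_smaller (G := H) (α := Fin m) (by simp; omega) (by simpa using ih)
    simpa using this

omit [Finite G] in
/-- `3 l ≤ 4 (n - r)` -/
theorem lb_faithful : LB G (4 * (Nat.card α - Nat.card (orbitRel.Quotient G α))) :=
  LB.of_orbits fun _ => bd_all _

end Cfsg.Agent.CompLen
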